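import Mathlib
import Cfsg.Agent.Base
import Cfsg.Agent.Lib.Fpf.C0

/-! Operator groups without an invariant class of pairs of index two: definitions. -/

set_option autoImplicit false
set_option linter.unusedSectionVars false
set_option linter.style.haveILetI false

namespace H42.FP

open Subgroup H69 H68B Cfsg
open scoped commutatorElement

variable {A G : Type*} [Group A] [Group G]

/-- no conjugacy class of pairs `L < K` of index two is invariant -/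
def NS (φ : A →* MulAut G) : Prop := ∀ L K : Subgroup G, L ≤ K → L.relIndex K = 2 →
  ¬ ∀ a, ∃ g : G, L.map (φ a).toMonoidHom = L ^ᶜ g ∧ K.map (φ a).toMonoidHom = K ^ᶜ g

/-- the local data at a Sylow 2-subgroup for an arbitrary operator group -/
structure Dat2 (φ : A →* MulAut G) (S : Subgroup G) : Prop where
  inv : Iv φ S
  hs : ∀ X ≤ S, X ≠ ⊥ → S ≤ 𝐍(X) → Iv φ X → ∀ g ∈ 𝐍(X), ∃ m ∈ 𝐍(ww S), ∀ p ∈ S,
    g * p * g⁻¹ ∈ S → g * p * g⁻¹ = m * p * m⁻¹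
  vg : VG (ww S) S
  ns : NS φ

/-- the non-trivial commutators -/
def Gm (X Y : Subgroup G) : Set G := {z | z ≠ 1 ∧ ∃ x ∈ X, ∃ y ∈ Y, z = ⁅x, y⁆}

/-- `⟨Γ⟩ = R × F` with `F` centralized by `K` and `K` transitive on `R#` -/
structure Fd (Γ K : Set G) (R : Subgroup G) : Prop where
  ne : Γ.Nonempty
  sq : ∀ x ∈ Γ, x * x = 1
  ab : ∀ x ∈ Γ, ∀ y ∈ Γ, Commute x y
  reg : ∀ z ∈ Γ, z ∉ centralizer K
  le : R ≤ closure Γ
  dec : ∀ z ∈ closure Γ, ∃ r ∈ R, ∃ f ∈ closure Γ ⊓ centralizer K, z = r * f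
  inf : R ⊓ centralizer K = ⊥
  tr : ∀ r ∈ R, r ≠ 1 → ∀ r' ∈ R, r' ≠ 1 → ∃ k ∈ K, k * r * k⁻¹ = r'
  one : ∀ r ∈ R, r ∈ Γ → ∀ r' ∈ R, r' ≠ 1 → r' ∈ Γ
  big : ∀ r ∈ R, r ≠ 1 → ∀ f ∈ closure Γ ⊓ centralizer K, f ≠ 1 → r * f ∈ Γ

theorem Gm.image {H : Type*} [Group H] {f : G →* H} (hf : Function.Injective f)
    (X Y : Subgroup G) : f '' Gm X Y = Gm (X.map f) (Y.map f) := by
  ext z
  constructor
  · rintro ⟨_, ⟨h, x, hx, y, hy, rfl⟩, rfl⟩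
    exact ⟨fun e => h (hf (e.trans (map_one f).symm)), _, mem_map_of_mem f hx, _,
      mem_map_of_mem f hy, map_commutatorElement f x y⟩
  · rintro ⟨h, _, ⟨x, hx, rfl⟩, _, ⟨y, hy, rfl⟩, rfl⟩
    exact ⟨⁅x, y⁆, ⟨fun e => h (by rw [← map_commutatorElement, e, map_one]), x, hx, y, hy, rfl⟩,
      map_commutatorElement f x y⟩

variable [Finite G] {φ : A →* MulAut G} {S C X : Subgroup G}

theorem Dat2.le_Mh (d : Dat2 φ S) (hC : C ≤ S) (h1 : X ≤ S) (h2 : X ≠ ⊥) (h3 : S ≤ 𝐍(X))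
    (h4 : Iv φ X) : 𝐍(X) ⊓ 𝐍(C) ≤ Mh S C := fun g hg => by
  obtain ⟨m, hm, e⟩ := d.hs X h1 h2 h3 h4 g hg.1
  exact ⟨hg.2, m, hm, fun x hx => e x (hC hx) (hC (conj_mem_of_mem_normalizer hg.2 hx))⟩

theorem Dat2.oc_le_Mh (d : Dat2 φ S) (hS : IsPGroup 2 S) (hC : C ≤ S) :
    𝐍(omegaOneCenter 2 S) ⊓ 𝐍(C) ≤ Mh S C := by
  by_cases e : S = ⊥
  · rw [le_bot_iff.1 (hC.trans e.le)]
    exact le_top.trans (centralizer_bot.ge.trans cent_le_Mh)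
  · exact d.le_Mh hC (oc_le S) (H24.omegaOne_center_ne_bot hS e) (le_normalizer_oc le_normalizer)
      d.inv.oc

end H42.FP
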