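import Mathlib
import Cfsg.Agent.Base
import Cfsg.Agent.Lib.Fpf.D2

/-! The orbit product gives an invariant class of pairs of index two (helper4). -/

set_option autoImplicit false
set_option linter.unusedSectionVars false
set_option linter.style.haveILetI false

namespace H42.FP

open Subgroup H69 H68.Push H59.MP H68B Cfsg
open H1.OA (Cfg)
open scoped commutatorElement

local notation "𝐕(" T ")" => omegaOneCenter 2 T

variable {A G : Type*} [Group A] [Finite A] [Group G] [Finite G]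

namespace N2

theorem le_or_le {H R F : Subgroup G} (h : ∀ x ∈ H, x ∈ R ∨ x ∈ F) : H ≤ R ∨ H ≤ F := by
  by_contra c
  obtain ⟨x, hx, x1⟩ := SetLike.not_le_iff_exists.1 (not_or.1 c).1
  obtain ⟨y, hy, y1⟩ := SetLike.not_le_iff_exists.1 (not_or.1 c).2
  rcases h _ (mul_mem hx hy) with e | e
  · exact x1 ((mul_mem_cancel_right ((h y hy).resolve_right y1)).1 e)
  · exact y1 ((mul_mem_cancel_left ((h x hx).resolve_left x1)).1 e)

theorem mem_cen (e : MulAut G) {K : Set G} {x : G} :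
    e x ∈ centralizer (e '' K) ↔ x ∈ centralizer K := by
  simp only [mem_centralizer_iff, Set.forall_mem_image, ← map_mul, e.apply_eq_iff_eq]

theorem map_F (e : MulAut G) (Γ K : Set G) :
    (closure Γ ⊓ centralizer K).map e.toMonoidHom = closure (e '' Γ) ⊓ centralizer (e '' K) := by
  rw [map_inf _ _ _ e.injective, MonoidHom.map_closure]
  congr 1
  ext x
  obtain ⟨x, rfl⟩ := e.surjective x
  exact (mem_map_iff_mem (f := e.toMonoidHom) e.injective).trans (mem_cen e).symm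

theorem fd_map (e : MulAut G) {Γ K : Set G} {R : Subgroup G} (h : Fd Γ K R) :
    Fd (e '' Γ) (e '' K) (R.map e.toMonoidHom) := by
  have c : closure (e '' Γ) = (closure Γ).map e.toMonoidHom :=
    (MonoidHom.map_closure e.toMonoidHom Γ).symm
  refine ⟨h.ne.image _, ?_, ?_, ?_, c ▸ map_mono h.le, ?_, ?_, ?_, ?_, ?_⟩
  · rintro _ ⟨x, hx, rfl⟩
    rw [← map_mul, h.sq x hx, map_one]
  · rintro _ ⟨x, hx, rfl⟩ _ ⟨y, hy, rfl⟩
    exact (h.ab x hx y hy).map e
  · rintro _ ⟨x, hx, rfl⟩ k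
    exact h.reg x hx ((mem_cen e).1 k)
  · rw [← map_F, c]
    rintro _ ⟨x, hx, rfl⟩
    obtain ⟨r, hr, f, hf, rfl⟩ := h.dec x hx
    exact ⟨_, mem_map_of_mem _ hr, _, mem_map_of_mem _ hf, map_mul _ _ _⟩
  · refine eq_bot_iff.2 ?_
    rintro _ ⟨⟨x, hx, rfl⟩, k⟩
    rw [mem_bot.1 (h.inf.le ⟨hx, (mem_cen e).1 k⟩), map_one]
    exact one_mem _
  · rintro _ ⟨x, hx, rfl⟩ x1 _ ⟨y, hy, rfl⟩ y1
    obtain ⟨k, hk, q⟩ := h.tr x hx (fun q => x1 (by rw [q, map_one])) y hy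
      fun q => y1 (by rw [q, map_one])
    exact ⟨_, ⟨k, hk, rfl⟩, by rw [← q]; simp⟩
  · rintro _ ⟨x, hx, rfl⟩ ⟨x', x1, q⟩ _ ⟨y, hy, rfl⟩ y1
    obtain rfl : x' = x := e.injective q
    exact ⟨y, h.one _ hx x1 y hy fun q => y1 (by rw [q, map_one]), rfl⟩
  · rw [← map_F]
    rintro _ ⟨x, hx, rfl⟩ x1 _ ⟨y, hy, rfl⟩ y1
    exact ⟨_, h.big x hx (fun q => x1 (by rw [q, map_one])) y hy fun q => y1 (by rw [q, map_one]),
      map_mul _ _ _⟩

variable {Γ K K' : Set G} {R R' : Subgroup G}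

theorem dec' (h : Fd Γ K R) {z : G} (hz : z ∈ Γ) :
    ∃ r ∈ R, r ≠ 1 ∧ ∃ f ∈ closure Γ ⊓ centralizer K, z = r * f := by
  obtain ⟨r, hr, f, hf, e⟩ := h.dec z (subset_closure hz)
  exact ⟨r, hr, fun q => h.reg z hz (by rw [e, q, one_mul]; exact hf.2), f, hf, e⟩

theorem key1 (h : Fd Γ K R) {z z' : G} (hz : z ∈ Γ) (hz' : z' ∈ Γ) :
    ∃ k ∈ K, ∃ f ∈ closure Γ ⊓ centralizer K, z' = k * z * k⁻¹ * f := by
  obtain ⟨r, hr, r1, f, hf, rfl⟩ := dec' h hz
  obtain ⟨r', hr', r1', f', hf', rfl⟩ := dec' h hz'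
  obtain ⟨k, hk, rfl⟩ := h.tr r hr r1 r' hr' r1'
  refine ⟨k, hk, f⁻¹ * f', mul_mem (inv_mem hf) hf', ?_⟩
  have c : Commute k f := hf.2 k hk
  simp only [mul_assoc]
  rw [← mul_assoc f, ← c.inv_left.eq]
  group

theorem cover (h : Fd Γ K R) {x : G} (hx : x ∈ closure Γ) (x1 : x ∉ Γ) :
    x ∈ R ∨ x ∈ closure Γ ⊓ centralizer K := by
  obtain ⟨r, hr, f, hf, rfl⟩ := h.dec x hx
  by_cases r1 : r = 1
  · rw [r1, one_mul]; exact Or.inr hf
  by_cases f1 : f = 1
  · rw [f1, mul_one]; exact Or.inl hr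
  exact absurd (h.big r hr r1 f hf f1) x1

theorem half (h : Fd Γ K R) (h' : Fd Γ K' R')
    (n : ¬ closure Γ ⊓ centralizer K' ≤ closure Γ ⊓ centralizer K) :
    closure Γ ⊓ centralizer K' ≤ R ∧ ∀ r ∈ R, r ∉ Γ := by
  have a := (le_or_le fun x (hx : x ∈ closure Γ ⊓ centralizer K') =>
    cover h hx.1 fun c => h'.reg x c hx.2).resolve_right n
  refine ⟨a, fun r hr c => ?_⟩
  obtain ⟨x, hx, x1⟩ := SetLike.not_le_iff_exists.1 n
  exact h'.reg x (h.one r hr c x (a hx) fun q => x1 (q ▸ one_mem _)) hx.2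

theorem half' (h : Fd Γ K R) (h' : Fd Γ K' R')
    (n : ¬ closure Γ ⊓ centralizer K' ≤ closure Γ ⊓ centralizer K)
    (n' : ¬ closure Γ ⊓ centralizer K ≤ closure Γ ⊓ centralizer K') : R ≤ centralizer K' := by
  rcases le_or_le fun x (hx : x ∈ R) => cover h' (h.le hx) ((half h h' n).2 x hx) with a | a
  · obtain ⟨z, hz⟩ := h.ne
    obtain ⟨r, hr, -, f, hf, rfl⟩ := dec' h hz
    exact absurd hz ((half h' h n').2 _ (mul_mem (a hr) ((half h' h n').1 hf)))
  · exact a.trans inf_le_right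

theorem key2 (h : Fd Γ K R) (h' : Fd Γ K' R')
    (n : ¬ closure Γ ⊓ centralizer K' ≤ closure Γ ⊓ centralizer K)
    (n' : ¬ closure Γ ⊓ centralizer K ≤ closure Γ ⊓ centralizer K') {z z' : G} (hz : z ∈ Γ)
    (hz' : z' ∈ Γ) : ∃ k ∈ K, ∃ k' ∈ K', z' = k * k' * z * (k * k')⁻¹ := by
  obtain ⟨r, hr, r1, f, hf, rfl⟩ := dec' h hz
  obtain ⟨r', hr', r1', f', hf', rfl⟩ := dec' h hz'
  obtain ⟨k, hk, rfl⟩ := h.tr r hr r1 r' hr' r1'
  obtain ⟨k', hk', e⟩ := h'.tr f ((half h' h n').1 hf)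
    (fun q => (half h h' n).2 _ hr (by rwa [q, mul_one] at hz)) f' ((half h' h n').1 hf')
    fun q => (half h h' n).2 _ hr' (by rwa [q, mul_one] at hz')
  refine ⟨k, hk, k', hk', ?_⟩
  have c : Commute k f' := hf'.2 k hk
  have c' : Commute k' r := half' h h' n n' hr k' hk'
  rw [mul_assoc (k * r), c.inv_left.eq, ← e, mul_assoc k k', ← mul_assoc k' r, c'.eq]
  group

open scoped IsMulCommutative in
theorem prod_rel {ι : Type*} {Z L : Subgroup G} [IsMulCommutative Z] (hL : L ≤ Z) {Δ : ι → Set G}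
    (key : ∀ i, ∀ z ∈ Δ i, ∀ z' ∈ Δ i, ∃ g ∈ 𝐂(L), (∀ j, j ≠ i → g ∈ centralizer (Δ j)) ∧
      ∃ l ∈ L, z' = g * z * g⁻¹ * l) {c c' : ι → Z} (hc : ∀ i, (c i : G) ∈ Δ i)
    (hc' : ∀ i, (c' i : G) ∈ Δ i) (s : Finset ι) :
    ∃ g ∈ 𝐂(L), (∀ j, j ∉ s → g ∈ centralizer (Δ j)) ∧
      ∃ l ∈ L, ((∏ i ∈ s, c' i : Z) : G) = g * (∏ i ∈ s, c i : Z) * g⁻¹ * l := by
  classical
  induction s using Finset.induction_on with
  | empty => exact ⟨1, one_mem _, fun _ _ => one_mem _, 1, one_mem _, by simp⟩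
  | insert i s hi ih =>
    obtain ⟨g, g1, g2, l, hl, e⟩ := ih
    obtain ⟨k, k1, k2, m, hm, e'⟩ := key i _ (hc i) _ (hc' i)
    refine ⟨k * g, mul_mem k1 g1, fun j hj => ?_, l * m, mul_mem hl hm, ?_⟩
    · rw [Finset.mem_insert, not_or] at hj
      exact mul_mem (k2 j hj.1) (g2 j hj.2)
    have a : Commute (c i : G) g := g2 i hi _ (hc i)
    have b : Commute ((∏ i ∈ s, c' i : Z) : G) k :=
      mem_centralizer_singleton_iff.1 (prod_mem (S := (centralizer {k}).subgroupOf Z) fun j hj =>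
        mem_centralizer_singleton_iff.2 (k2 j (fun q => hi (q ▸ hj)) _ (hc' j)))
    have d : Commute m ((∏ i ∈ s, c' i : Z) : G) := setLike_mul_comm (hL hm) (SetLike.coe_mem _)
    have f : Commute l k := k1 l hl
    rw [Finset.prod_insert hi, Finset.prod_insert hi, coe_mul, coe_mul, e', mul_assoc _ m, d.eq,
      ← mul_assoc, mul_assoc _ k⁻¹, ← b.inv_right.eq, e, mul_assoc k g, ← mul_assoc g, ← a.eq,
      mul_inv_rev]
    simp only [mul_assoc]
    rw [← mul_assoc l, f.inv_right.eq, mul_assoc]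

theorem pair {φ : A →* MulAut G} (ns : NS φ) {L : Subgroup G} {x : G} (hx : x ∉ L)
    (x2 : x * x = 1) (hc : x ∈ 𝐂(L)) (hL : ∀ a, L.map (φ a).toMonoidHom = L)
    (h : ∀ a, ∃ g ∈ 𝐂(L), ∃ l ∈ L, φ a x = g * x * g⁻¹ * l) : False := by
  have k : ∀ b ∈ L ⊔ zpowers x, b * x ∈ L ∨ b ∈ L := fun b hb => by
    rw [← closure_eq L, zpowers_eq_closure, ← Subgroup.closure_union] at hb
    induction hb using closure_induction with
    | mem y hy =>
      rcases hy with hy | rfl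
      exacts [Or.inr hy, Or.inl (x2 ▸ one_mem _)]
    | one => exact Or.inr (one_mem _)
    | mul y z _ _ hy hz =>
      rcases hy with hy | hy <;> rcases hz with hz | hz
      · refine Or.inr ?_
        have := mul_mem hy hz
        rwa [mul_assoc y, ← hc _ hz, mul_assoc z, x2, mul_one] at this
      · refine Or.inl ?_
        have := mul_mem hy hz
        rwa [mul_assoc y, ← hc _ hz, ← mul_assoc] at this
      · exact Or.inl (mul_assoc y z x ▸ mul_mem hy hz)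
      · exact Or.inr (mul_mem hy hz)
    | inv y _ hy =>
      refine hy.imp (fun hy => ?_) inv_mem
      have e : Commute (y * x) x := hc _ hy
      have e' : y⁻¹ * x = (y * x)⁻¹ := by
        rw [eq_inv_iff_mul_eq_one, mul_assoc, ← e.eq, mul_assoc y, x2, mul_one, inv_mul_cancel]
      exact e' ▸ inv_mem hy
  refine ns L (L ⊔ zpowers x) le_sup_left (relIndex_eq_two_iff_exists_notMem_and.2
    ⟨x, mem_sup_right (mem_zpowers x), hx, k⟩) fun a => ?_
  obtain ⟨g, hg, l, hl, e⟩ := h a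
  refine ⟨g, by rw [hL, cj_eq_of_mem_centralizer hg], ?_⟩
  rw [Subgroup.map_sup, hL, cj_sup, cj_eq_of_mem_centralizer hg, cj_zpowers, MonoidHom.map_zpowers]
  change L ⊔ zpowers (φ a x) = _
  refine le_antisymm (sup_le le_sup_left (zpowers_le.2 ?_)) (sup_le le_sup_left (zpowers_le.2 ?_))
  · rw [e]
    exact mul_mem (mem_sup_right (mem_zpowers _)) (mem_sup_left hl)
  · rw [← mul_inv_eq_iff_eq_mul.2 e]
    exact mul_mem (mem_sup_right (mem_zpowers _)) (mem_sup_left (inv_mem hl))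

end N2

open scoped IsMulCommutative in
/-- the orbit product gives an invariant class of pairs -/
theorem Fd.false {φ : A →* MulAut G} (ns : NS φ) {Γ K : Set G} {R : Subgroup G} (h : Fd Γ K R)
    (hd : ∀ a, φ a '' Γ = Γ ∨
      (φ a '' Γ ⊆ centralizer K ∧ ∀ x ∈ Γ, ∀ y ∈ Γ, Commute x (φ a y))) : False := by
  classical
  have im : ∀ (a b : A) (X : Set G), φ a '' (φ b '' X) = φ (a * b) '' X := fun a b X => by
    rw [← Set.image_comp, map_mul]; rfl
  have im1 : ∀ X : Set G, φ 1 '' X = X := fun X => by rw [map_one]; exact Set.image_id X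
  have hd' : ∀ a b, φ b '' Γ = φ a '' Γ ∨ (φ b '' Γ ⊆ centralizer (φ a '' K) ∧
      ∀ x ∈ φ a '' Γ, ∀ y ∈ φ b '' Γ, Commute x y) := fun a b => by
    obtain ⟨c, rfl⟩ : ∃ c, b = a * c := ⟨a⁻¹ * b, by group⟩
    rw [← im]
    refine (hd c).imp (fun e => by rw [e]) fun ⟨e1, e2⟩ => ⟨?_, ?_⟩
    · rintro _ ⟨x, hx, rfl⟩
      exact (N2.mem_cen _).2 (e1 hx)
    · rintro _ ⟨x, hx, rfl⟩ _ ⟨_, ⟨y, hy, rfl⟩, rfl⟩
      exact (e2 x hx y hy).map _
  have un : ∀ a (X : Set G), φ a '' (⋃ b, φ b '' X) = ⋃ b, φ b '' X := fun a X => by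
    rw [Set.image_iUnion]
    simp only [im]
    exact (Equiv.mulLeft a).surjective.iUnion_comp fun b => φ b '' X
  obtain ⟨Z, hZ⟩ : ∃ Z, Z = closure (⋃ a, φ a '' Γ) := ⟨_, rfl⟩
  have : IsMulCommutative Z := hZ ▸ isMulCommutative_closure fun x hx y hy => by
    obtain ⟨a, hx⟩ := Set.mem_iUnion.1 hx
    obtain ⟨b, hy⟩ := Set.mem_iUnion.1 hy
    exact (hd' a b).elim (fun e => (N2.fd_map (φ a) h).ab x hx y (e ▸ hy)) fun e => e.2 x hx y hy
  have sub : ∀ a, closure (φ a '' Γ) ≤ Z := fun a =>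
    hZ ▸ closure_mono (Set.subset_iUnion (fun a => φ a '' Γ) a)
  obtain ⟨L, hL⟩ : ∃ L, L = Z ⊓ centralizer (⋃ a, φ a '' K) := ⟨_, rfl⟩
  have LZ : L ≤ Z := hL ▸ inf_le_left
  have LK : ∀ a, L ≤ centralizer (φ a '' K) := fun a =>
    hL ▸ inf_le_right.trans (centralizer_le (Set.subset_iUnion (fun a => φ a '' K) a))
  let ι := {i : Set G // ∃ a, φ a '' Γ = i}
  have : Fintype ι := Fintype.ofFinite ι
  have good : ∀ a, ∀ k ∈ φ a '' K, k ∈ 𝐂(L) ∧ ∀ j : ι, j.1 ≠ φ a '' Γ → k ∈ centralizer j.1 :=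
    fun a k hk => ⟨fun l hl => (LK a hl k hk).symm, fun ⟨_, b, e⟩ hj x hx => by
      subst e
      exact (((hd' a b).resolve_left hj).1 hx k hk).symm⟩
  have key : ∀ i : ι, ∀ z ∈ i.1, ∀ z' ∈ i.1, ∃ g ∈ 𝐂(L), (∀ j : ι, j ≠ i → g ∈ centralizer j.1) ∧
      ∃ l ∈ L, z' = g * z * g⁻¹ * l := by
    rintro ⟨_, a, rfl⟩ z hz z' hz'
    by_cases c : ∀ b, φ b '' Γ = φ a '' Γ →
        closure (φ a '' Γ) ⊓ centralizer (φ a '' K) ≤ centralizer (φ b '' K)
    · obtain ⟨k, hk, f, hf, e⟩ := N2.key1 (N2.fd_map (φ a) h) hz hz'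
      refine ⟨k, (good a k hk).1, fun j hj => (good a k hk).2 j fun q => hj (Subtype.ext q), f,
        hL ▸ ⟨sub a hf.1, fun x hx => ?_⟩, e⟩
      obtain ⟨b, hx⟩ := Set.mem_iUnion.1 hx
      exact (hd' b a).elim (fun q => c b q.symm hf x hx) fun q => (closure_le _).2 q.1 hf.1 x hx
    · push Not at c
      obtain ⟨b, e, c⟩ := c
      have hb := N2.fd_map (φ b) h
      rw [e] at hb
      have n : ¬ closure (φ a '' Γ) ⊓ centralizer (φ a '' K) ≤
          closure (φ a '' Γ) ⊓ centralizer (φ b '' K) := fun q => c (q.trans inf_le_right)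
      obtain ⟨k, hk, k', hk', q⟩ := N2.key2 (N2.fd_map (φ a) h) hb (fun q => n (eq_of_le_of_card_ge q (by
        rw [← N2.map_F, ← e, ← N2.map_F, card_map_of_injective (φ a).injective,
          card_map_of_injective (φ b).injective])).ge) n hz hz'
      exact ⟨k * k', mul_mem (good a k hk).1 (good b k' hk').1, fun j hj =>
        mul_mem ((good a k hk).2 j fun q => hj (Subtype.ext q))
          ((good b k' hk').2 j fun q => hj (Subtype.ext (q.trans e))), 1, one_mem _, by rw [mul_one, q]⟩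
  have ex : ∀ i : ι, ∃ z : Z, (z : G) ∈ i.1 := by
    rintro ⟨_, a, rfl⟩
    obtain ⟨z, hz⟩ := h.ne.image (φ a)
    exact ⟨⟨z, sub a (subset_closure hz)⟩, hz⟩
  choose c hc using ex
  have hZ' : ∀ a, Z.map (φ a).toMonoidHom = Z := fun a => by
    rw [hZ, MonoidHom.map_closure]
    exact congrArg Subgroup.closure (un a Γ)
  refine N2.pair ns (L := L) (x := ((∏ i, c i : Z) : G)) (fun hx => ?_) ?_
    (fun l hl => setLike_mul_comm (LZ hl) (SetLike.coe_mem _))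
    (fun a => by rw [hL, hZ, N2.map_F, un, un]) fun a => ?_
  · let i0 : ι := ⟨Γ, 1, im1 Γ⟩
    have hx' := LK 1 hx
    rw [← Finset.mul_prod_erase _ _ (Finset.mem_univ i0), coe_mul, im1] at hx'
    refine h.reg _ (hc i0) ((mul_mem_cancel_right
      (prod_mem (S := (centralizer K).subgroupOf Z) fun j hj => ?_)).1 hx')
    obtain ⟨b, e⟩ := j.2
    exact ((hd b).resolve_left fun q =>
      Finset.ne_of_mem_erase hj (Subtype.ext (e.symm.trans q))).1 (e ▸ hc j)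
  · rw [← coe_mul, ← Finset.prod_mul_distrib, Finset.prod_eq_one, coe_one]
    intro i _
    obtain ⟨b, e⟩ := i.2
    exact Subtype.ext ((N2.fd_map (φ b) h).sq _ (e ▸ hc i))
  · let ψ : Z →* Z := ((φ a).toMonoidHom.comp Z.subtype).codRestrict Z fun x =>
      (hZ' a).le (mem_map_of_mem _ x.2)
    let σ : ι → ι := fun i => ⟨φ a⁻¹ '' i.1, i.2.elim fun b e => ⟨a⁻¹ * b, by rw [← im, e]⟩⟩
    have hσ : Function.Bijective σ := Finite.injective_iff_bijective.1 fun i j e =>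
      Subtype.ext ((φ a⁻¹).injective.image_injective (congrArg Subtype.val e))
    obtain ⟨g, hg, -, l, hl, e⟩ := N2.prod_rel LZ key (c' := fun j => ψ (c (σ j))) hc (fun j => by
      have := Set.mem_image_of_mem (φ a) (hc (σ j))
      rwa [im, mul_inv_cancel, im1] at this) Finset.univ
    refine ⟨g, hg, l, hl, Eq.trans ?_ e⟩
    rw [hσ.prod_comp fun j => ψ (c j), ← map_prod]
    rfl

end H42.FP
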