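import Mathlib
import Cfsg.Agent.Base
import Cfsg.Agent.Lib.Fpf.D2

set_option autoImplicit false
set_option linter.unusedSectionVars false
set_option linter.style.haveILetI false

namespace H42.FP

open Subgroup H69 H68.Push H59.MP H68B Cfsg
open H1.OA (Cfg)
open scoped commutatorElement

local notation "𝐕(" T ")" => omegaOneCenter 2 T

variable {H : Type*} [Group H] [Finite H]

namespace N3

open H24 (upT)
open Matrix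
open scoped MatrixGroups

variable {F : Type} [Field F] {L V B X Z K : Subgroup H} {ρ : H → SL(2, F)} {ψ : H → Fin 2 → F}

/-- the data used by the torus argument -/
structure Tq (F : Type) [Field F] (L V B X Z K : Subgroup H) (ρ : H → SL(2, F))
    (ψ : H → Fin 2 → F) : Prop where
  n : NatSec F L V ⊥ B ρ ψ
  syl : IsSylowIn 2 B L
  XB : X ≤ B
  ZV : Z ≤ V
  ZB : Z ≤ 𝐂(B)
  VV : V ≤ 𝐂(V)
  sq : ∀ v ∈ V, v * v = 1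
  cmZ : ∀ x ∈ V, ∀ y ∈ X, ⁅x, y⁆ ∈ Z
  nX : L ⊓ 𝐍(B) ≤ 𝐍(X)
  nZ : L ⊓ 𝐍(B) ≤ 𝐍(Z)
  KL : K ≤ L
  sup : ∀ a ∈ L, ∃ k ∈ K, ∃ b ∈ B, a = k * b
  ne : ¬ X ≤ 𝐂(V)

namespace Tq

theorem cent_iff (t : Tq F L V B X Z K ρ ψ) {z : H} (hz : z ∈ Z) : z ∈ 𝐂(K) ↔ z ∈ 𝐂(L) := by
  refine ⟨fun h a ha => ?_, fun h => centralizer_anti t.KL h⟩
  obtain ⟨k, hk, b, hb, rfl⟩ := t.sup a ha
  rw [mul_assoc, t.ZB hz b hb, ← mul_assoc, h k hk, mul_assoc]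

theorem one (t : Tq F L V B X Z K ρ ψ) {z : H} (hz : z ∈ Z) : ψ z 1 = 0 :=
  (t.n.fix z (t.ZV hz)).1 (by rw [cm_bot]; exact t.ZB hz)

theorem zero_iff (t : Tq F L V B X Z K ρ ψ) {z : H} (hz : z ∈ Z) : ψ z 0 = 0 ↔ z ∈ 𝐂(K) := by
  rw [t.cent_iff hz, ← cm_bot, ← t.n.ψ_ker z (t.ZV hz), vec_eq_zero, and_iff_left (t.one hz)]

theorem low (t : Tq F L V B X Z K ρ ψ) {a : H} (ha : a ∈ L ⊓ 𝐍(B)) : ρ a 1 0 = 0 := by
  obtain ⟨v, hv, e⟩ := t.n.ψ_surj ![1, 0]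
  have h1 : v ∈ 𝐂(B) := by rw [← cm_bot, t.n.fix v hv, e]; rfl
  have h2 := conj_mem_of_mem_normalizer (normalizer_le_normalizer_centralizer B ha.2) h1
  rw [← cm_bot, t.n.fix _ (t.n.conj_mem ha.1 hv), t.n.equiv a ha.1 v hv, mulVec_one', e] at h2
  simpa using h2

theorem act (t : Tq F L V B X Z K ρ ψ) {a z : H} (ha : a ∈ L) (hz : z ∈ Z) :
    ψ (a * z * a⁻¹) 0 = ρ a 0 0 * ψ z 0 := by
  rw [t.n.equiv a ha z (t.ZV hz), mulVec_zero', t.one hz, mul_zero, add_zero]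

theorem mul00 (t : Tq F L V B X Z K ρ ψ) {a b : H} (ha : a ∈ L) (hb : b ∈ L ⊓ 𝐍(B)) :
    ρ (a * b) 0 0 = ρ a 0 0 * ρ b 0 0 := by
  rw [t.n.ρ_mul a ha b hb.1, Matrix.SpecialLinearGroup.coe_mul, Matrix.mul_apply,
    Fin.sum_univ_two, t.low hb, mul_zero, add_zero]

theorem uni (t : Tq F L V B X Z K ρ ψ) {a : H} (ha : a ∈ L ⊓ 𝐍(B)) (h : ρ a 0 0 = 1) :
    a ∈ 𝐂(Z) := by
  obtain ⟨b, hb, e⟩ := t.n.up_surj (ρ a 0 1)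
  have h1 : ρ a = upT (ρ a 0 1) := by
    have := H64.SL2.det_eq (ρ a)
    rw [t.low ha, h] at this
    simp only [H64.SL2.ent, upT, h, t.low ha]
    refine ⟨trivial, trivial, trivial, ?_⟩
    linear_combination this
  have hbL := t.n.leT hb
  have h2 : a * b⁻¹ ∈ 𝐂(V) := by
    rw [← cm_bot, ← t.n.ρ_ker _ (L.mul_mem ha.1 (L.inv_mem hbL)),
      t.n.ρ_mul _ ha.1 _ (L.inv_mem hbL), t.n.ρ_inv hbL, e, ← h1, mul_inv_cancel]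
  simpa using mul_mem (centralizer_anti t.ZV h2) (le_centralizer_comm.1 t.ZB hb)

theorem swap (t : Tq F L V B X Z K ρ ψ) {a b z : H} (ha : a ∈ L ⊓ 𝐍(B)) (hb : b ∈ L ⊓ 𝐍(B))
    (hz : z ∈ Z) : a * (b * z * b⁻¹) * a⁻¹ = b * (a * z * a⁻¹) * b⁻¹ := by
  have hab := mul_mem ha hb
  have hba := mul_mem hb ha
  have h0 : ρ ((b * a)⁻¹ * (b * a)) 0 0 = 1 := by rw [inv_mul_cancel, t.n.ρ_one]; rfl
  have h1 : (b * a)⁻¹ * (a * b) ∈ 𝐂(Z) := t.uni (mul_mem (inv_mem hba) hab) (by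
    rw [t.mul00 (inv_mem hba).1 hab, t.mul00 ha.1 hb, mul_comm (ρ a 0 0), ← t.mul00 hb.1 ha,
      ← t.mul00 (inv_mem hba).1 hba, h0])
  have h2 := h1 z hz
  calc a * (b * z * b⁻¹) * a⁻¹ = b * a * ((b * a)⁻¹ * (a * b) * z) * (a * b)⁻¹ := by group
    _ = b * a * (z * ((b * a)⁻¹ * (a * b))) * (a * b)⁻¹ := by rw [h2]
    _ = _ := by group

theorem torus (t : Tq F L V B X Z K ρ ψ) {l : F} (hl : l ≠ 0) :
    ∃ a ∈ L ⊓ 𝐍(B), ρ a 0 0 = l := by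
  obtain ⟨g, hg, e⟩ := t.n.ρ_surj (dg l hl)
  have hD : B ⊔ L ⊓ cm ⊥ V ≤ L := sup_le t.n.leT inf_le_left
  have h1 : B ^ᶜ g ≤ B ⊔ L ⊓ cm ⊥ V := fun x hx => by
    obtain ⟨u, hu, rfl⟩ := mem_cj'.1 hx
    obtain ⟨c, hc⟩ := t.n.up u hu
    obtain ⟨s, hs, e1⟩ := t.n.up_surj (ρ g 0 0 ^ 2 * c)
    have hsL := t.n.leT hs
    have h1 : g * u ∈ L := L.mul_mem hg (t.n.leT hu)
    have h2 : g * u * g⁻¹ ∈ L := L.mul_mem h1 (L.inv_mem hg)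
    have h3 : s⁻¹ * (g * u * g⁻¹) ∈ L := L.mul_mem (L.inv_mem hsL) h2
    have h4 := (t.n.ρ_ker _ h3).1 (by
      rw [t.n.ρ_mul _ (L.inv_mem hsL) _ h2, t.n.ρ_mul _ h1 _ (L.inv_mem hg),
        t.n.ρ_mul _ hg _ (t.n.leT hu), t.n.ρ_inv hg, t.n.ρ_inv hsL, hc, e1,
        conj_upT (by rw [e]; rfl), inv_mul_cancel])
    simpa using (mul_mem_sup hs ⟨h3, h4⟩ : _ ∈ B ⊔ L ⊓ cm ⊥ V)
  obtain ⟨d, hd, e1⟩ := ((t.syl.cj_of_mem hg).mono h1 hD).conj (t.syl.mono le_sup_left hD)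
  rw [cj_cj, cj_eq_self_iff] at e1
  obtain ⟨c, hc⟩ := (t.n.mono le_sup_left le_rfl).up d hd
  refine ⟨d * g, ⟨L.mul_mem (hD hd) hg, e1⟩, ?_⟩
  rw [t.n.ρ_mul d (hD hd) g hg, hc, e, Matrix.SpecialLinearGroup.coe_mul]
  simp [upT, dg, H64.SL2.mk, Matrix.mul_apply, Fin.sum_univ_two]

theorem memZ (t : Tq F L V B X Z K ρ ψ) {z : H} (hz : z ∈ Gm V X) : z ∈ Z := by
  obtain ⟨-, x, hx, y, hy, rfl⟩ := hz
  exact t.cmZ x hx y hy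

theorem clZ (t : Tq F L V B X Z K ρ ψ) : closure (Gm V X) ≤ Z := (closure_le _).2 fun _ => t.memZ

theorem comm_mem (x : H) (hx : x ∈ V) (y : H) (hy : y ∈ X) : ⁅x, y⁆ ∈ closure (Gm V X) := by
  by_cases e : ⁅x, y⁆ = 1
  · rw [e]; exact one_mem _
  · exact subset_closure ⟨e, x, hx, y, hy, rfl⟩

theorem reg (t : Tq F L V B X Z K ρ ψ) {z : H} (hz : z ∈ Gm V X) : z ∉ 𝐂(K) := fun h => by
  have h1 := (t.cent_iff (t.memZ hz)).1 h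
  obtain ⟨h0, x, hx, y, hy, rfl⟩ := hz
  have h2 : y ∉ cm ⊥ V := by
    rw [cm_bot]; exact fun e => h0 (commutatorElement_eq_one_iff_mul_comm.2 (e x hx))
  have h3 := t.n.reg (t.XB hy) h2 hx (by
    rw [cm_bot, ← commutatorElement_inv]; exact inv_mem h1)
  rw [cm_bot] at h3
  exact h0 (commutatorElement_eq_one_iff_mul_comm.2 (h3 y (t.XB hy)).symm)

theorem conj_mem (t : Tq F L V B X Z K ρ ψ) {a z : H} (ha : a ∈ L ⊓ 𝐍(B)) (hz : z ∈ Gm V X) :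
    a * z * a⁻¹ ∈ Gm V X := by
  obtain ⟨h0, x, hx, y, hy, rfl⟩ := hz
  refine ⟨fun e => h0 (by simpa [mul_inv_eq_one] using e), _, t.n.conj_mem ha.1 hx, _,
    conj_mem_of_mem_normalizer (t.nX ha) hy, ?_⟩
  group

theorem conj_cl (t : Tq F L V B X Z K ρ ψ) {a z : H} (ha : a ∈ L ⊓ 𝐍(B))
    (hz : z ∈ closure (Gm V X)) : a * z * a⁻¹ ∈ closure (Gm V X) := by
  induction hz using closure_induction with
  | mem x hx => exact subset_closure (t.conj_mem ha hx)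
  | one => simp
  | mul x y _ _ hx hy => simpa [mul_assoc] using mul_mem hx hy
  | inv x _ hx => simpa [mul_assoc] using inv_mem hx

theorem surj (t : Tq F L V B X Z K ρ ψ) (c : F) : ∃ z ∈ closure (Gm V X), ψ z 0 = c := by
  obtain ⟨y, hy, hy'⟩ := SetLike.not_le_iff_exists.1 t.ne
  obtain ⟨d, d0, e⟩ := t.n.exists_up (t.XB hy) (by rwa [cm_bot])
  obtain ⟨v, hv, e1⟩ := t.n.ψ_surj ![0, d⁻¹ * c]
  refine ⟨⁅y, v⁆, by rw [← commutatorElement_inv]; exact inv_mem (comm_mem v hv y hy), ?_⟩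
  rw [t.n.ψ_comm_up (t.n.leT (t.XB hy)) hv e, e1]
  simp [d0]

/-- the commutators with one element -/
def Y0 (t : Tq F L V B X Z K ρ ψ) (y : X) : Subgroup H where
  carrier := {z | ∃ x ∈ V, z = ⁅x, (y : H)⁆}
  one_mem' := ⟨1, V.one_mem, by simp⟩
  mul_mem' := by
    rintro _ _ ⟨x, hx, rfl⟩ ⟨x', hx', rfl⟩
    refine ⟨x * x', V.mul_mem hx hx', ?_⟩
    have h := t.VV (t.ZV (t.cmZ x' hx' y y.2))
    have h1 := h x hx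
    have h2 := h _ (t.ZV (t.cmZ x hx y y.2))
    calc ⁅x, (y : H)⁆ * ⁅x', (y : H)⁆ = ⁅x', (y : H)⁆ * x * x⁻¹ * ⁅x, (y : H)⁆ := by rw [h2]; group
      _ = x * ⁅x', (y : H)⁆ * x⁻¹ * ⁅x, (y : H)⁆ := by rw [h1]
      _ = _ := by group
  inv_mem' := by
    rintro _ ⟨x, hx, rfl⟩
    exact ⟨x, hx, inv_eq_of_mul_eq_one_right (t.sq _ (t.ZV (t.cmZ x hx y y.2)))⟩

theorem to_Y0 (t : Tq F L V B X Z K ρ ψ) (y : X) {a x u : H} (ha : a ∈ L ⊓ 𝐍(B)) (hx : x ∈ V)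
    (hu : u ∈ X) (e : ρ (a * u * a⁻¹) = ρ y) : a * ⁅x, u⁆ * a⁻¹ ∈ t.Y0 y := by
  refine ⟨a * x * a⁻¹, t.n.conj_mem ha.1 hx, ?_⟩
  have hyL := t.n.leT (t.XB y.2)
  have h1 : a * u * a⁻¹ ∈ L := L.mul_mem (L.mul_mem ha.1 (t.n.leT (t.XB hu))) (L.inv_mem ha.1)
  have h2 : (y : H)⁻¹ * (a * u * a⁻¹) ∈ 𝐂(V) := by
    rw [← cm_bot, ← t.n.ρ_ker _ (L.mul_mem (L.inv_mem hyL) h1),
      t.n.ρ_mul _ (L.inv_mem hyL) _ h1, t.n.ρ_inv hyL, e, inv_mul_cancel]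
  have h3 := h2 _ (V.inv_mem (t.n.conj_mem ha.1 hx))
  calc a * ⁅x, u⁆ * a⁻¹ = a * x * a⁻¹ * y * ((y : H)⁻¹ * (a * u * a⁻¹) * (a * x * a⁻¹)⁻¹) *
        (a * u * a⁻¹)⁻¹ := by group
    _ = a * x * a⁻¹ * y * ((a * x * a⁻¹)⁻¹ * ((y : H)⁻¹ * (a * u * a⁻¹))) *
        (a * u * a⁻¹)⁻¹ := by rw [h3]
    _ = _ := by group

theorem Y0_mem (t : Tq F L V B X Z K ρ ψ) (y : X) {z : H} (hz : z ∈ t.Y0 y) (h : z ≠ 1) :
    z ∈ Gm V X := by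
  obtain ⟨x, hx, rfl⟩ := hz
  exact ⟨h, x, hx, y, y.2, rfl⟩

theorem up_of (t : Tq F L V B X Z K ρ ψ) {x u : H} (hx : x ∈ V) (hu : u ∈ X) (h : ⁅x, u⁆ ≠ 1) :
    ∃ c, c ≠ 0 ∧ ρ u = upT c := t.n.exists_up (t.XB hu) (by
  rw [cm_bot]; exact fun e => h (commutatorElement_eq_one_iff_mul_comm.2 (e x hx)))

theorem fd (t : Tq F L V B X Z K ρ ψ) (hs : ∀ c : F, IsSquare c) {R : Subgroup H}
    (h1 : R ≤ closure (Gm V X)) (h2 : ∀ a ∈ L ⊓ 𝐍(B), ∀ r ∈ R, a * r * a⁻¹ ∈ R)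
    (h3 : R ⊓ 𝐂(K) = ⊥) (h4 : ∀ c, ∃ r ∈ R, ψ r 0 = c) : Fd (Gm V X) (K : Set H) R := by
  have hRZ := h1.trans t.clZ
  have hRV := hRZ.trans t.ZV
  have nz : ∀ r ∈ R, r ≠ 1 → ψ r 0 ≠ 0 := fun r hr h e =>
    h (mem_bot.1 (h3 ▸ ⟨hr, (t.zero_iff (hRZ hr)).1 e⟩))
  have dec : ∀ z ∈ closure (Gm V X), ∃ r ∈ R, ∃ f ∈ closure (Gm V X) ⊓ 𝐂(K), z = r * f :=
    fun z hz => by
    obtain ⟨r, hr, e⟩ := h4 (ψ z 0)
    have h5 := mul_mem (inv_mem (h1 hr)) hz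
    refine ⟨r, hr, r⁻¹ * z, ⟨h5, (t.zero_iff (t.clZ h5)).1 ?_⟩, by group⟩
    rw [t.n.ψ_mul _ (inv_mem (hRV hr)) _ (t.ZV (t.clZ hz)), t.n.ψ_inv (hRV hr)]
    simp [e]
  have tr : ∀ r ∈ R, r ≠ 1 → ∀ r' ∈ R, r' ≠ 1 → ∃ a ∈ L ⊓ 𝐍(B), a * r * a⁻¹ = r' :=
    fun r hr h r' hr' h' => by
    obtain ⟨a, ha, e⟩ := t.torus (div_ne_zero (nz r' hr' h') (nz r hr h))
    refine ⟨a, ha, ?_⟩
    have h5 := h2 a ha r hr
    by_contra e1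
    refine nz _ (mul_mem h5 (inv_mem hr')) (fun e2 => e1 (mul_inv_eq_one.1 e2)) ?_
    rw [t.n.ψ_mul _ (hRV h5) _ (inv_mem (hRV hr')), t.n.ψ_inv (hRV hr'), Pi.add_apply,
      t.act ha.1 (hRZ hr), e, div_mul_cancel₀ _ (nz r hr h)]
    simp
  have fx : ∀ a ∈ L, ∀ f ∈ closure (Gm V X) ⊓ 𝐂(K), a * f * a⁻¹ = f := fun a ha f hf => by
    rw [(t.cent_iff (t.clZ hf.1)).1 hf.2 a ha, mul_inv_cancel_right]
  obtain ⟨y, hy, hy'⟩ := SetLike.not_le_iff_exists.1 t.ne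
  obtain ⟨d, d0, ed⟩ := t.n.exists_up (t.XB hy) (by rwa [cm_bot])
  have hle : closure (Gm V X) ≤ R ⊔ t.Y0 ⟨y, hy⟩ := (closure_le _).2 fun z hz => by
    obtain ⟨r, hr, f, hf, e⟩ := dec z (subset_closure hz)
    obtain ⟨h0, x, hx, u, hu, e0⟩ := hz
    obtain ⟨c, c0, ec⟩ := t.up_of hx hu (e0 ▸ h0)
    obtain ⟨l, hl⟩ := hs (d / c)
    obtain ⟨a, ha, ea⟩ := t.torus (l := l) (by
      rintro rfl; exact div_ne_zero d0 c0 (by simpa using hl))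
    have huL := t.n.leT (t.XB hu)
    have h5 := t.to_Y0 ⟨y, hy⟩ ha hx hu (by
      rw [t.n.ρ_mul _ (L.mul_mem ha.1 huL) _ (L.inv_mem ha.1), t.n.ρ_mul _ ha.1 _ huL,
        t.n.ρ_inv ha.1, ec, conj_upT (t.low ha), ea, pow_two, ← hl, div_mul_cancel₀ _ c0, ed])
    rw [← e0] at h5
    have h6 : z = r * (a * r * a⁻¹)⁻¹ * (a * z * a⁻¹) := by
      conv_lhs => rw [e, ← fx a ha.1 f hf]
      rw [e]; group
    rw [h6]
    exact mul_mem_sup (mul_mem hr (inv_mem (h2 a ha r hr))) h5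
  refine ⟨?_, fun x hx => t.sq x (t.ZV (t.memZ hx)),
    fun x hx x' hx' => t.VV (t.ZV (t.memZ hx')) x (t.ZV (t.memZ hx)), fun z => t.reg, h1, dec, h3,
    fun r hr h r' hr' h' => ?_, fun r hr h r' hr' h' => ?_, fun r hr h f hf h' => ?_⟩
  · rw [mem_centralizer_iff] at hy'
    push Not at hy'
    obtain ⟨x, hx, e⟩ := hy'
    exact ⟨_, fun e1 => e (commutatorElement_eq_one_iff_mul_comm.1 e1), x, hx, y, hy, rfl⟩
  · obtain ⟨a, ha, rfl⟩ := tr r hr h r' hr' h'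
    obtain ⟨k, hk, b, hb, rfl⟩ := t.sup a ha.1
    refine ⟨k, hk, ?_⟩
    rw [mul_assoc k b, t.ZB (hRZ hr) b hb]; group
  · obtain ⟨a, ha, rfl⟩ := tr r hr h.1 r' hr' h'
    exact t.conj_mem ha h
  · have hY : t.Y0 ⟨y, hy⟩ ≤ V := by
      rintro _ ⟨x, hx, rfl⟩; exact t.ZV (t.cmZ x hx y hy)
    obtain ⟨r1, hr1, y1, hy1, e⟩ := (mem_sup_of_le_normalizer_right (le_normalizer_of_le_centralizer
      ((hRV.trans t.VV).trans (centralizer_anti hY)))).1 (hle hf.1)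
    have h5 : y1 ∈ Gm V X := t.Y0_mem _ hy1 fun e1 => h' (mem_bot.1 (h3 ▸ ⟨by
      rw [e, e1, mul_one]; exact hr1, hf.2⟩))
    have h6 : r1⁻¹ ≠ 1 := fun e1 => t.reg h5 (by
      rw [inv_eq_one.1 e1, one_mul] at e; exact e ▸ hf.2)
    obtain ⟨a, ha, rfl⟩ := tr _ (inv_mem hr1) h6 r hr h
    have := t.conj_mem ha h5
    rw [← fx a ha.1 f hf, e]
    convert this using 1
    group

theorem exists_fd (t : Tq F L V B X Z K ρ ψ) (hs : ∀ c : F, IsSquare c) :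
    ∃ R, Fd (Gm V X) (K : Set H) R := by
  by_cases hF : ∀ c : F, c ≠ 0 → c = 1
  · refine ⟨_, t.fd hs le_rfl (fun a ha r => t.conj_cl ha) ?_ t.surj⟩
    obtain ⟨y, hy, hy'⟩ := SetLike.not_le_iff_exists.1 t.ne
    obtain ⟨d, d0, ed⟩ := t.n.exists_up (t.XB hy) (by rwa [cm_bot])
    have hle : closure (Gm V X) ≤ t.Y0 ⟨y, hy⟩ := (closure_le _).2 fun z hz => by
      obtain ⟨h0, x, hx, u, hu, rfl⟩ := hz
      obtain ⟨c, c0, ec⟩ := t.up_of hx hu h0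
      simpa using t.to_Y0 ⟨y, hy⟩ (one_mem _) hx hu (by simp [ec, ed, hF c c0, hF d d0])
    rw [eq_bot_iff]
    intro z hz
    by_contra e
    exact t.reg (t.Y0_mem _ (hle hz.1) e) hz.2
  push Not at hF
  obtain ⟨l, l0, l1⟩ := hF
  obtain ⟨a, ha, ea⟩ := t.torus l0
  have hW := t.clZ.trans t.ZV
  have hc : ∀ z ∈ closure (Gm V X), ⁅a, z⁆ ∈ closure (Gm V X) := fun z hz =>
    mul_mem (t.conj_cl ha hz) (inv_mem hz)
  have hψ : ∀ z ∈ closure (Gm V X), ψ ⁅a, z⁆ 0 = (l - 1) * ψ z 0 := fun z hz => by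
    rw [commutatorElement_def, t.n.ψ_mul _ (hW (t.conj_cl ha hz)) _ (inv_mem (hW hz)),
      t.n.ψ_inv (hW hz), Pi.add_apply, t.act ha.1 (t.clZ hz), ea, Pi.neg_apply]
    ring
  let R : Subgroup H :=
    { carrier := {r | ∃ z ∈ closure (Gm V X), r = ⁅a, z⁆}
      one_mem' := ⟨1, one_mem _, by simp⟩
      mul_mem' := by
        rintro _ _ ⟨x, hx, rfl⟩ ⟨x', hx', rfl⟩
        refine ⟨x * x', mul_mem hx hx', ?_⟩
        have h1 := t.VV (hW (hc x' hx')) x (hW hx)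
        calc ⁅a, x⁆ * ⁅a, x'⁆ = ⁅a, x⁆ * (⁅a, x'⁆ * x) * x⁻¹ := by group
          _ = ⁅a, x⁆ * (x * ⁅a, x'⁆) * x⁻¹ := by rw [h1]
          _ = _ := by group
      inv_mem' := by
        rintro _ ⟨x, hx, rfl⟩
        exact ⟨x, hx, inv_eq_of_mul_eq_one_right (t.sq _ (hW (hc x hx)))⟩ }
  refine ⟨R, t.fd hs ?_ ?_ ?_ fun c => ?_⟩
  · rintro _ ⟨z, hz, rfl⟩; exact hc z hz
  · rintro b hb _ ⟨z, hz, rfl⟩
    refine ⟨_, t.conj_cl hb hz, ?_⟩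
    rw [commutatorElement_def a (b * z * b⁻¹), t.swap ha hb (t.clZ hz)]; group
  · rw [eq_bot_iff]
    rintro _ ⟨⟨z, hz, rfl⟩, h⟩
    have h1 := (t.zero_iff (t.clZ (hc z hz))).2 h
    rw [hψ z hz, mul_eq_zero, sub_eq_zero, or_iff_right l1, t.zero_iff (t.clZ hz),
      t.cent_iff (t.clZ hz)] at h1
    exact commutatorElement_eq_one_iff_mul_comm.2 (h1 a ha.1)
  · obtain ⟨z, hz, e⟩ := t.surj ((l - 1)⁻¹ * c)
    exact ⟨_, ⟨z, hz, rfl⟩, by rw [hψ z hz, e, mul_inv_cancel_left₀ (sub_ne_zero.2 l1)]⟩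

theorem eqns_Y0 (t : Tq F L V B X Z K ρ ψ) (y : X) : t.Y0 y = t.Y0 y := by
  have := Tq.Y0.eq_1 t y
  rfl

end Tq

end N3

/-- the Cartan subgroup on the commutators of the natural module with its partner -/
theorem exists_fd {q : ℕ} {L B M Q' X' : Subgroup H} (h : PU 2 q L B M) (hz : ¬ L ≤ 𝐂(𝐕(B)))
    (c : Cfg q B 𝐕(B) (pCoreOf 2 L) 𝐕(pCoreOf 2 L)) (c' : Cfg q B 𝐕(B) Q' X')
    (hn : ¬ X' ≤ pCoreOf 2 L) :
    (∃ R, Fd (Gm 𝐕(pCoreOf 2 L) X') (𝐑(2, L) : Subgroup H) R) ∧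
      ∀ k ∈ 𝐑(2, L), ∀ x ∈ pCoreOf 2 L, ⁅k, x⁆ ∈ 𝐕(pCoreOf 2 L) := by
  have hn' : ¬ 𝐕(pCoreOf 2 L) ≤ Q' := c'.nle_symm c hn
  have hXB : X' ≤ B := c'.XQ.trans c'.QB
  have hQ := H70.le_normalizer_pCoreOf 2 L
  have hLV : L ≤ 𝐍(𝐕(pCoreOf 2 L)) := le_normalizer_oc hQ
  have hBX : B ≤ 𝐍(X') := fun b hb => H24.mem_normalizer_of_conj_mem (c'.norm b hb)
  have hi : X' ⊓ pCoreOf 2 L ≤ 𝐕(B) := fun y hy => (c.pair c' hn').1 y hy.1 hy.2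
  have hc : ⁅pCoreOf 2 L, X'⁆ ≤ 𝐕(B) :=
    (le_inf (commutator_le_right_of_le_normalizer (c.QB.trans hBX))
      (commutator_le_left_of_le_normalizer (hXB.trans c.normQ))).trans hi
  have hR : ¬ 𝐑(2, L) ≤ 𝐂(𝐕(pCoreOf 2 L)) := h.not_res_le_centralizer
    (le_inf (oc_le B) (oc_le_cent B)) c.ZX fun e => hz (h.le_centralizer_of_normal (oc_le_cent B) e)
  refine ⟨?_, fun k hk x hx => (mem_cm'.1 (h.res_le_of_not_le_Q (le_normalizer_cm hLV hQ) hXB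
    (le_cm_iff.2 ⟨(hXB.trans h.le).trans hLV, hc.trans c.ZX⟩) hn hk)).2 x hx⟩
  obtain ⟨-, H2⟩ := h.nat_bot.{_, 0} hLV (le_inf (oc_le _) (oc_le_cent _)) hR hXB hn (by
    rw [c.cardX, c'.cardX]
    exact Nat.mul_le_mul_left _ ((card_le_of_le hi).trans (card_le_of_le
      (le_inf c.ZX ((oc_le_cent B).trans (centralizer_anti hXB))))))
  obtain ⟨F, _, _, hF, _⟩ := h.exists_field
  obtain ⟨ρ, ψ, hN⟩ := H2 F hF
  refine N3.Tq.exists_fd (Z := 𝐕(B)) ⟨hN, h.syl, hXB, c.ZX, oc_le_cent B,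
    (oc_le_cent _).trans (centralizer_anti (oc_le _)), c.sq,
    fun x hx y hy => hc (commutator_mem_commutator (c.XQ hx) hy), fun a ha => ?_,
    le_normalizer_oc inf_le_right, res_le L, fun a ha => ?_,
    fun e => hn fun y hy => (c.Q_iff y (hXB hy)).2 (e hy)⟩
    (FiniteField.isSquare_of_char_two (ringChar.eq F 2))
  · rw [← cj_eq_self_iff]
    refine c.uniq c' (cfg_cj c' ha.2) hn' ?_
    rw [← cj_eq_of_mem_normalizer (hLV ha.1), cj_le_cj_iff]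
    exact hn'
  · rw [← h.syl.res_sup] at ha
    obtain ⟨k, hk, b, hb, e⟩ := (mem_sup_of_le_normalizer_left (h.le.trans (le_normalizer_res L))).1 ha
    exact ⟨k, hk, b, hb, e⟩

end H42.FP
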