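import Mathlib
import Cfsg.Agent.Base
import Cfsg.Agent.Lib.Fpf.C2
import Cfsg.Agent.Lib.Fpf.C3
import Cfsg.Agent.Lib.Fpf.N2
import Cfsg.Agent.Lib.Fpf.N3
import Cfsg.Agent.Lib.Fpf.P4a0

/-! Transport of the final data; no bad subgroup is normal, for arbitrary operators. -/

set_option autoImplicit false
set_option linter.unusedSectionVars false
set_option linter.style.haveILetI false

namespace H42.FP

open Subgroup H69 H68.Push H59.MP H68B Cfsg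
open H1.OA (Cfg)
open OF (Lf tr_oc tr_J tr_B tr_inc)
open scoped commutatorElement

universe u

local notation "𝐁(" T ")" => baumannSubgroupOf 2 T
local notation "𝐉(" T ")" => thompsonSubgroupOf 2 T
local notation "𝐕(" T ")" => omegaOneCenter 2 T

section
variable {R G H : Type*} [Group R] [Group G] [Group H] {i : R →* G} {j : R →* H}

theorem Fd.lift (l : Lf i j) {P : Subgroup R} {Γ : Set R} (hΓ : Γ ⊆ P) {K : Set H}
    (hK : ∀ k ∈ K, k ∈ 𝐍(P.map j)) {D : Subgroup H} (h : Fd (j '' Γ) K D) :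
    ∃ (K' : Set G) (D' : Subgroup G), Fd (i '' Γ) K' D' ∧
      ∀ x ∈ P, j x ∈ centralizer K → i x ∈ centralizer K' := by
  let K' : Set G := {g | ∃ k ∈ K, ∀ x ∈ P, ∀ y, j y = k * j x * k⁻¹ → i y = g * i x * g⁻¹}
  have lf : ∀ k ∈ K, ∃ g ∈ K', ∀ x ∈ P, ∀ y, j y = k * j x * k⁻¹ → i y = g * i x * g⁻¹ :=
    fun k hk => by
    obtain ⟨g, hg⟩ := l.lift k P fun x hx =>
      map_le_range _ _ (conj_mem_of_mem_normalizer (hK k hk) (mem_map_of_mem j hx))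
    exact ⟨g, ⟨k, hk, hg⟩, hg⟩
  have key : ∀ x ∈ P, j x ∈ centralizer K ↔ i x ∈ centralizer K' := fun x hx => by
    refine ⟨fun e g ⟨k, hk, hg⟩ => mul_inv_eq_iff_eq_mul.1
      (hg x hx x (mul_inv_eq_iff_eq_mul.2 (e k hk)).symm).symm, fun e k hk => ?_⟩
    obtain ⟨g, hg, e1⟩ := lf k hk
    obtain ⟨y, -, hy⟩ := conj_mem_of_mem_normalizer (hK k hk) (mem_map_of_mem j hx)
    have := e1 x hx y hy
    rw [e g hg, mul_inv_cancel_right] at this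
    rw [l.ii this] at hy
    exact mul_inv_eq_iff_eq_mul.1 hy.symm
  have c1 : closure Γ ≤ P := (closure_le P).2 hΓ
  have c2 : ∀ x, j x ∈ D → x ∈ closure Γ := fun x hx =>
    (mem_map_iff_mem l.ij).1 (MonoidHom.map_closure j Γ ▸ h.le hx)
  have c3 : ∀ d ∈ D, ∃ x, j x = d := fun d hd =>
    map_le_range _ _ (MonoidHom.map_closure j Γ ▸ h.le hd)
  have m1 : ∀ x, j x ∈ j '' Γ ↔ i x ∈ i '' Γ := fun x => by
    rw [l.ij.mem_set_image, l.ii.mem_set_image]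
  have n1 : ∀ x, i x ≠ 1 → j x ≠ 1 := fun x e e1 =>
    e (by rw [l.ij (e1.trans (map_one j).symm), map_one])
  refine ⟨K', (D.comap j).map i, ⟨(Set.image_nonempty.1 h.ne).image i, ?_, ?_, ?_, ?_, ?_, ?_, ?_,
    ?_, ?_⟩, fun x hx => (key x hx).1⟩ <;> try rw [← MonoidHom.map_closure]
  · rintro _ ⟨x, hx, rfl⟩
    simpa using l.mul_eq (c := 1) (d := 1) (by simpa using h.sq _ ⟨x, hx, rfl⟩)
  · rintro _ ⟨x, hx, rfl⟩ _ ⟨y, hy, rfl⟩
    exact l.mul_eq (h.ab _ ⟨x, hx, rfl⟩ _ ⟨y, hy, rfl⟩)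
  · rintro _ ⟨x, hx, rfl⟩ e
    exact h.reg _ ⟨x, hx, rfl⟩ ((key x (hΓ hx)).2 e)
  · exact map_mono c2
  · rintro _ ⟨x, hx, rfl⟩
    obtain ⟨r, hr, f, hf, e⟩ := h.dec (j x) (MonoidHom.map_closure j Γ ▸ mem_map_of_mem j hx)
    obtain ⟨r, rfl⟩ := c3 r hr
    rw [← MonoidHom.map_closure] at hf
    obtain ⟨⟨f, f1, rfl⟩, f2⟩ := hf
    exact ⟨_, mem_map_of_mem i hr, _, ⟨mem_map_of_mem i f1, (key f (c1 f1)).1 f2⟩, by
      rw [← map_mul] at e ⊢; rw [l.ij e]⟩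
  · refine eq_bot_iff.2 ?_
    rintro _ ⟨⟨x, hx, rfl⟩, e⟩
    by_contra e1
    exact n1 x e1 (mem_bot.1 (h.inf ▸ mem_inf.2 ⟨hx, (key x (c1 (c2 x hx))).2 e⟩))
  · rintro _ ⟨x, hx, rfl⟩ e _ ⟨y, hy, rfl⟩ e'
    obtain ⟨k, hk, e1⟩ := h.tr _ hx (n1 x e) _ hy (n1 y e')
    obtain ⟨g, hg, e2⟩ := lf k hk
    exact ⟨g, hg, (e2 x (c1 (c2 x hx)) y e1.symm).symm⟩
  · rintro _ ⟨x, hx, rfl⟩ e _ ⟨y, hy, rfl⟩ e'
    exact (m1 y).1 (h.one _ hx ((m1 x).2 e) _ hy (n1 y e'))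
  · rintro _ ⟨x, hx, rfl⟩ e _ ⟨⟨y, hy, rfl⟩, hy'⟩ e'
    rw [← map_mul, ← m1, map_mul]
    exact h.big _ hx (n1 x e) _ ⟨MonoidHom.map_closure j Γ ▸ mem_map_of_mem j hy,
      (key y (c1 hy)).2 hy'⟩ (n1 y e')

theorem cm_cent {P X : Subgroup H} {K : Set H} (h1 : X ≤ P) (h2 : P ≤ 𝐂(X))
    (h : ∀ k ∈ K, ∀ c ∈ P, ⁅k, c⁆ ∈ X) {a b : H} (ha : a ∈ P) (hb : b ∈ P) :
    ⁅a, b⁆ ∈ centralizer K := fun k hk => by
  have e : ∀ c : H, k * c * k⁻¹ = ⁅k, c⁆ * c := fun c => by rw [commutatorElement_def]; group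
  have c1 : Commute ⁅k, a⁆ (⁅k, b⁆ * b) := h2 (mul_mem (h1 (h k hk b hb)) hb) _ (h k hk a ha)
  have c2 : Commute ⁅k, a⁆ a := h2 ha _ (h k hk a ha)
  have c3 : Commute ⁅k, b⁆ a := h2 ha _ (h k hk b hb)
  have c4 : Commute ⁅k, b⁆ b := h2 hb _ (h k hk b hb)
  rw [← mul_inv_eq_iff_eq_mul, conjugate_commutatorElement, e, e, c2.eq, P4a.cm1 c1, c4.eq,
    P4a.cm2 c3]

variable [Finite H] {q : ℕ} {B Z Q W Q' W' Q₁ W₁ Q₂ W₂ : Subgroup H}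

theorem cfg_oc (c : Cfg q B Z Q W) (c' : Cfg q B Z Q' W') (hn : ¬ W' ≤ Q) :
    Z = 𝐕(B) ∧ W = 𝐕(Q) := by
  have le : W ≤ 𝐕(Q) := fun x hx => H24.mem_omegaOne
    ⟨c.XQ hx, fun t ht => ((c.Q_iff t (c.QB ht)).1 ht x hx).symm⟩ (by rw [sq, c.sq x hx])
  refine ⟨Subgroup.ext fun z => (c.Z_iff z).trans
    ⟨fun k => H24.mem_omegaOne ⟨k.1, k.2.2⟩ (by rw [sq, k.2.1]),
      fun k => ⟨oc_le B k, by rw [← sq]; exact (oc_ea B).2 z k, oc_le_cent B k⟩⟩,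
    le_antisymm le fun v hv => ?_⟩
  obtain ⟨x, hx, d, hd, rfl⟩ := (c'.pair c hn).2 v (c.QB (oc_le Q hv))
  have dV : d ∈ 𝐕(Q) := (Subgroup.mul_mem_cancel_left _ (le hx)).1 hv
  refine mul_mem hx (c.ZX ((c.Z_iff d).2 ⟨c'.QB hd, by rw [← sq]; exact (oc_ea Q).2 d dV,
    fun b hb => ?_⟩))
  obtain ⟨y, hy, e, he, rfl⟩ := (c.pair c' (c'.nle_symm c hn)).2 b hb
  rw [mul_assoc, oc_le_cent Q dV e he, ← mul_assoc, (c'.Q_iff d (c'.QB hd)).1 hd y hy, mul_assoc]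

theorem cfg_gm (c : Cfg q B Z Q W) (c' : Cfg q B Z Q' W') (hn : ¬ W' ≤ Q) {z : H}
    (hz : z ∈ Gm W W') : z ∈ Z ∧ z ∈ Gm W' W := by
  obtain ⟨h1, x, hx, y, hy, rfl⟩ := hz
  have h2 : ⁅x, y⁆ ∈ W := by
    simpa [commutatorElement_def, mul_assoc] using
      mul_mem hx (c.norm y (c'.QB (c'.XQ hy)) _ (inv_mem hx))
  exact ⟨(c.pair c' (c'.nle_symm c hn)).1 _ (mul_mem (c'.norm x (c.QB (c.XQ hx)) y hy) (inv_mem hy))
    (c.XQ h2), h1, y, hy, x, hx, by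
      rw [← commutatorElement_inv x, inv_eq_of_mul_eq_one_right (c.sq _ h2)]⟩

theorem cfg_dich (c : Cfg q B Z Q W) (c' : Cfg q B Z Q' W') (hn : ¬ W' ≤ Q) (d : Cfg q B Z Q₁ W₁)
    (d' : Cfg q B Z Q₂ W₂) (hd : ¬ W₂ ≤ Q₁) : Gm W₁ W₂ = Gm W W' ∨ W₁ ≤ Q ∧ W₂ ≤ Q := by
  have key : ∀ {Q₁ W₁ Q₂ W₂ : Subgroup H}, Cfg q B Z Q₁ W₁ → Cfg q B Z Q₂ W₂ → ¬ W₁ ≤ Q₂ →
      ¬ W₁ ≤ Q → W₁ = W' ∧ W₂ = W := fun d d' hd e =>
    ⟨c.uniq c' d (c'.nle_symm c hn) (d.nle_symm c e), d.uniq c d' e hd⟩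
  by_cases e1 : W₁ ≤ Q
  · by_cases e2 : W₂ ≤ Q
    · exact .inr ⟨e1, e2⟩
    · obtain ⟨rfl, rfl⟩ := key d' d hd e2
      exact .inl rfl
  · obtain ⟨rfl, rfl⟩ := key d d' (d'.nle_symm d hd) e1
    exact .inl (Set.Subset.antisymm (fun z hz => (cfg_gm c' c (c'.nle_symm c hn) hz).2)
      fun z hz => (cfg_gm c c' hn hz).2)

end

variable {G : Type u} [Group G] [Finite G] {A : Type*} [Group A] [Finite A] {φ : A →* MulAut G}

namespace Md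

variable {S C R Y P X : Subgroup G} {H : Type*} [Group H] [Finite H] {f : Y →* H} {j : R →* H}
  {M : Subgroup H}

theorem cV2 (m : Md S C R Y P f j M) (d : Dat2 φ S) (hS : IsPGroup 2 S) (hV : 𝐕(S) ≤ R) :
    𝐂((𝐕(S).subgroupOf R).map j) ≤ M := fun h hh => by
  obtain ⟨g, rfl⟩ := m.surj h
  exact (m.mem g).2 (d.oc_le_Mh hS (m.CP.trans (m.PR.trans m.RS))
    ⟨(m.norm (m.VP hV) g).1 (centralizer_le_normalizer _ hh), m.YC g.2⟩)

theorem nC2 (m : Md S C R Y P f j M) (d : Dat2 φ S) (hS : IsPGroup 2 S) (hV : 𝐕(S) ≤ R) :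
    ¬ ⊤ ≤ 𝐂(𝐕(j.range)) := fun e =>
  m.pm.ne_top (top_le_iff.1 (e.trans ((centralizer_anti (m.V_le hV)).trans (m.cV2 d hS hV))))

theorem nJ2 (m : Md S C R Y P f j M) (n : NP G) (mx : Mx R) (d : Dat2 φ S) (hS : IsSylowIn 2 S ⊤)
    (hV : 𝐕(S) ≤ R) : ¬ ⊤ ≤ 𝐍(𝐉(j.range)) := fun e => by
  have h1 := m.pm.inf_normal (le_normalizer_centralizer (le_normalizer_oc (p := 2) e))
    ((centralizer_anti ((m.V_le hV).trans (oc_le_ocJ _))).trans (m.cV2 d hS.isP hV))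
  rw [← bau_def, ← tr_B m.lf.ij] at h1
  exact m.nY ((le_inf (m.YP.trans ((mx.bau.mono (m.le_P (bau_le R) h1)).nb n hS
    (m.PR.trans m.RS))) m.YC).trans (Mh_anti m.CP))

end Md

theorem np2 (hy : ∀ S : Subgroup G, IsSylowIn 2 S ⊤ → ∃ φ : A →* MulAut G, Dat2 φ S) : NP G :=
  fun S C b hn => by
  obtain ⟨C, ⟨b, hn⟩, hm⟩ := wellFounded_gt.has_min {C | Bad S C ∧ S ≤ 𝐍(C)} ⟨C, b, hn⟩
  have h1 := b.syl.mono hn le_top
  have h2 := b.ext (by rwa [inf_eq_left.2 hn])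
  rw [inf_eq_left.2 hn] at h2
  have h3 : S ⊓ 𝐂(C) ≤ C := by
    by_contra e
    exact hm _ h2 (lt_of_le_not_ge le_sup_left fun e1 => e (le_sup_right.trans e1))
  obtain ⟨Y, P, H, _, _, f, j₀, M, m⟩ := exists_md le_rfl b.le h1 h3
    ((inf_le_inf_right _ (norm_le_ww S)).trans inf_le_Mh) b.nM
  obtain ⟨φ, d⟩ := hy S b.syl
  have cV := m.cV2 d b.syl.isP (oc_le S)
  obtain ⟨q, L, pu⟩ := exists_pu m.pm m.chr (m.nC2 d b.syl.isP (oc_le S)) fun e => by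
    rw [← tr_J m.lf.ij] at e
    exact m.nY ((le_inf (((m.normal_iff (m.le_P (H24.thompsonSubgroupOf_le S) e)).1 e).trans
      (le_normalizer_ww S)) m.YC).trans inf_le_Mh)
  have BS := bau_le (p := 2) S
  have VB := OF.oc_le_bau (oc_le S) le_rfl
  have iB : Iv φ 𝐁(S) := d.inv.inf d.inv.J.oc.cent
  have l : Lf 𝐁(S).subtype (j₀.comp (inclusion BS)) := m.lf.pre (inclusion_injective BS)
  rw [← tr_B m.lf.ij, ← tr_inc BS le_rfl, subgroupOf_self, ← MonoidHom.range_eq_map] at pu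
  rw [← tr_inc BS (VB.trans (oc_le _))] at cV
  set j := j₀.comp (inclusion BS) with hj
  let Γ : Subgroup (MulAut 𝐁(S)) :=
    { carrier := {γ | ∀ x, (γ x : G) ∈ 𝐕(S) ↔ (x : G) ∈ 𝐕(S)}
      one_mem' := fun _ => Iff.rfl
      mul_mem' := fun ha hb x => (ha _).trans (hb x)
      inv_mem' := fun {γ} h x => by simpa using (h (γ⁻¹ x)).symm }
  obtain ⟨γ, -, u, u1, u2⟩ := C3.push l.ij pu Γ (V := 𝐕(S).subgroupOf 𝐁(S)) (fun z hz =>
    ⟨Subtype.ext ((oc_ea S).2 _ hz), fun x => Subtype.ext (oc_le_cent S hz _ (BS x.2))⟩)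
    (fun γ hγ x hx => (hγ x).2 hx) fun K k1 k2 k3 => by
    have k0 := (map_subtype_le K).trans BS
    have k4 : S ≤ 𝐍(K.map 𝐁(S).subtype) := fun s hs => H24.mem_normalizer_of_conj_mem (by
      rintro _ ⟨x, hx, rfl⟩
      exact ⟨_, k2 (𝐁(S).normalizerMonoidHom ⟨s, le_normalizer_bau S hs⟩) (fun y =>
        (mem_normalizer_iff.1 (le_normalizer_oc le_normalizer hs) y).symm) x hx, rfl⟩)
    rw [← subgroupOf_map_subtype' K, tr_inc BS (map_subtype_le K)] at k3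
    have k5 : ⊤ ≤ 𝐍(((K.map 𝐁(S).subtype).subgroupOf S).map j₀) := by
      refine (m.pm.sup_eq_top pu.ne).ge.trans (sup_le k3 ?_)
      rwa [MonoidHom.range_eq_map, le_normalizer_map_iff m.lf.ij, ← normal_iff_top_le_normalizer,
        normal_iff_le_normalizer_map, map_subgroupOf_eq_of_le k0]
    refine m.nY ((le_inf ((m.normal_iff (m.le_P k0 k5)).1 k5) m.YC).trans
      (d.le_Mh b.le k0 (fun e => pu.ne (le_top.trans (le_trans ?_ cV))) k4 ?_))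
    · rw [le_bot_iff.1 (k1.trans (map_subtype_eq_bot_iff.1 e).le), Subgroup.map_bot, centralizer_bot]
    · rintro a _ ⟨x, hx, rfl⟩
      exact ⟨_, k2 (H2.subAut φ _ iB a) (fun y => ⟨fun e => by simpa using d.inv.oc a⁻¹ (φ a y) e,
        d.inv.oc a _⟩) x hx, rfl⟩
  let e := MonoidHom.ofInjective l.ij
  have c := C3.exists_cfg pu (e.symm.trans (γ.trans e)) (u := e u) u1 (by
    rwa [MulEquiv.trans_apply, e.symm_apply_apply])
  have c0 := c.comap l.ij le_rfl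
  rw [MonoidHom.comap_range_self] at c0
  have ca : ∀ α : MulAut 𝐁(S), Cfg q ⊤ _ (((pCoreOf 2 L).comap j).map α.toMonoidHom)
      (((zz 2 L).comap j).map α.toMonoidHom) := fun α => by
    have := C3.cfg_map (f := α.toMonoidHom) α.injective c0
    rw [map_top_of_surjective _ α.surjective] at this
    rwa [this.Z_eq c0] at this
  have n0 : ¬ ((zz 2 L).comap j).map γ.toMonoidHom ≤ (pCoreOf 2 L).comap j := fun k =>
    u2 (k (mem_map_of_mem _ u1))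
  have c' := C3.cfg_map l.ij (ca γ)
  rw [← MonoidHom.range_eq_map] at c'
  rw [c'.Z_eq c] at c'
  have n1 := mt (fun k => map_le_iff_le_comap.1 k) n0
  obtain ⟨e1, e2⟩ := cfg_oc c c' n1
  obtain ⟨⟨D, fd⟩, hc⟩ := exists_fd pu (fun k => pu.ne (k.trans ((centralizer_anti
    (tr_oc l.ij ▸ map_mono (comap_mono VB))).trans cV))) (e1 ▸ e2 ▸ c) (e1 ▸ c') n1
  rw [← e2] at fd
  nth_rewrite 1 [← map_comap_eq_self (c.XQ.trans c.QB)] at fd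
  rw [← Gm.image l.ij] at fd
  obtain ⟨K, D, fd, hK⟩ := fd.lift l (P := (pCoreOf 2 L).comap j)
    (fun z hz => c0.XQ (c0.ZX (cfg_gm c0 (ca γ) n0 hz).1)) fun k hk => by
    rw [map_comap_eq_self pu.Q_le]; exact pu.normQ (map_subtype_le _ hk)
  refine fd.false d.ns fun a => ?_
  have e3 : ∀ Ω : Set 𝐁(S), φ a '' (𝐁(S).subtype '' Ω) =
      𝐁(S).subtype '' ((H2.subAut φ _ iB a).toMonoidHom '' Ω) := fun Ω => by
    rw [Set.image_image, Set.image_image]; rfl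
  rw [e3, Gm.image (H2.subAut φ _ iB a).injective, map_map]
  refine (cfg_dich c0 (ca γ) n0 (ca (H2.subAut φ _ iB a)) (ca (H2.subAut φ _ iB a * γ)) fun k =>
    n0 ?_).imp (congrArg _) ?_
  · rwa [← map_le_map_iff_of_injective (f := (H2.subAut φ _ iB a).toMonoidHom)
      (H2.subAut φ _ iB a).injective, map_map]
  · rintro ⟨k1, k2⟩
    refine ⟨?_, ?_⟩
    · rintro _ ⟨_, ⟨-, x, hx, y, hy, rfl⟩, rfl⟩
      refine hK _ (commutator_le_of_le k1 k2 (commutator_mem_commutator hx hy)) ?_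
      rw [map_commutatorElement]
      exact cm_cent (oc_le _) (le_cent_oc _) hc (k1 hx) (k2 hy)
    · rintro _ ⟨x, hx, rfl⟩ _ ⟨y, -, rfl⟩
      exact (congrArg Subtype.val (((c0.Z_iff x).1 (cfg_gm c0 (ca γ) n0 hx).1).2.2
        (H2.subAut φ _ iB a y) (mem_top _))).symm

end H42.FP
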