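import Mathlib
import Cfsg.Agent.Base
import Cfsg.Agent.Lib.Fpf.D2
import Cfsg.Agent.Lib.Fpf.P4a

/-! An arbitrary automorphism either moves a pair of blocks into the centralizer of the block or
fixes the set of commutators of the pair. -/

set_option autoImplicit false
set_option linter.unusedSectionVars false
set_option linter.style.haveILetI false

namespace H42.FP

open Subgroup H69 H68.Push H59.MP H68B Cfsg
open H1.OA (Cfg)
open scoped commutatorElement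

local notation "𝐕(" T ")" => omegaOneCenter 2 T

variable {S : Type*} [Group S] [Finite S]

namespace N1

open P4a

variable {p n : ℕ} {X X' X₀ : Subgroup S}

theorem cm_symm (h : Bt p n X X' X₀) {x y : S} (hx : x ∈ X) (hy : y ∈ X') : ⁅x, y⁆ = ⁅y, x⁆ := by
  rw [← commutatorElement_inv, h.inv (Bt.cm_mem hx (h.le hy))]

theorem gm_symm (h : Bt p n X X' X₀) : Gm X' X = Gm X X' := by
  ext z
  exact ⟨fun ⟨a, y, hy, x, hx, e⟩ => ⟨a, x, hx, y, hy, e.trans (cm_symm h hx hy).symm⟩,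
    fun ⟨a, x, hx, y, hy, e⟩ => ⟨a, y, hy, x, hx, e.trans (cm_symm h hx hy)⟩⟩

theorem one (hS : IsPGroup 2 S) (h : Bt p n X X' X₀) (σ : MulAut S)
    (e1 : X.map σ.toMonoidHom = X') (e2 : X'.map σ.toMonoidHom = X) (γ : MulAut S)
    (hγ : ¬ X.map γ.toMonoidHom ≤ 𝐂(X)) : γ '' Gm X X' = Gm X X' := by
  have h' : Bt p n X' X (X₀.map σ.toMonoidHom) := by
    have := h.map σ
    rwa [e1, e2] at this
  refine Set.eq_of_subset_of_ncard_le ?_ (Set.ncard_image_of_injective _ γ.injective).ge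
  obtain ⟨u, hu, hu', h3⟩ := h.ex
  have hv := (mem_map_iff γ).2 hu
  have hv' : γ u ∉ 𝐂(X'.map γ.toMonoidHom) := by rwa [map_cent, mem_map_iff]
  have hc : ¬ Commute (γ u) u := fun hc => hγ (le_centralizer_iff.1 fun x hx =>
    (h.map γ).cent' hS hv hv' (cmc (h.cent' hS hu hu' hc) hx).symm)
  by_cases hq : ∃ a ∈ X, ∃ b ∈ X, a ∉ 𝐂(X') ∧ b ∉ 𝐂(X') ∧ a * b ∉ 𝐂(X')
  · obtain ⟨m, hm⟩ := hS (u * γ u)
    have h4 := h.ord4 hS h' hq hu hu' m (h.map γ) (h'.map γ) hv hv' hm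
    have f1 := h.four hS h' (h.map γ) (h'.map γ) hu hu' hv hv' (fun l => hc l.symm) h4
    have f2 := (h.map γ).four hS (h'.map γ) h h' hv hv' hu hu' hc (by
      rw [show γ u * u = u⁻¹ * (u * γ u) * u⁻¹⁻¹ by group, conj_pow, h4]; group)
    refine (Gm.image (f := γ.toMonoidHom) γ.injective X X').subset.trans ?_
    rintro z ⟨hz, y, hy, x, hx, rfl⟩
    obtain ⟨y', hy', c, hc1, rfl⟩ := h.dec y
      (h'.nn (centralizer_le_normalizer _ (f1 ▸ (h.map γ).ab hy)))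
    have e3 := cm1 (y := y') (cmc (f2 ▸ hc1) hx)
    obtain ⟨x', hx', c', hc2, rfl⟩ := h'.dec x
      (h.nn (centralizer_le_normalizer _ (f2 ▸ (h'.map γ).ab hx)))
    exact ⟨hz, x', hx', y', hy', by rw [e3, cm2 (cmc hc2 hy'), cm_symm h hx' hy']⟩
  have hq' : ∀ a ∈ X.map σ.toMonoidHom, ∀ b ∈ X.map σ.toMonoidHom, a ∉ 𝐂(X'.map σ.toMonoidHom) →
      b ∉ 𝐂(X'.map σ.toMonoidHom) → a * b ∈ 𝐂(X'.map σ.toMonoidHom) := by
    rw [map_cent]
    rintro _ ⟨a, ha, rfl⟩ _ ⟨b, hb, rfl⟩ a1 b1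
    rw [← map_mul]
    exact mem_map_of_mem _ (by_contra fun k => hq ⟨a, ha, b, hb, fun l => a1 (mem_map_of_mem _ l),
      fun l => b1 (mem_map_of_mem _ l), k⟩)
  rw [e1, e2] at hq'
  obtain ⟨y, hy, hy', -⟩ := h'.ex
  have nb : ∀ m ∈ 𝐍(X), m ∉ 𝐂(X) → ⁅m, u⁆ = ⁅y, u⁆ := fun m hm hm' => by
    obtain ⟨y1, hy1, c, hc, rfl⟩ := h.dec m hm
    rw [cm1 (cmc hc hu), ← cm1 (y := y) (cmc (hq' y hy y1 hy1 hy' fun k => hm' (mul_mem k hc)) hu),
      ← mul_assoc, h'.sq y hy, one_mul]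
  obtain ⟨w, -, w1, w2, w3, w4⟩ := exists_w hS (h.sq u hu) ((h.map γ).sq _ hv) (fun l => hc l.symm)
  have key : ∀ w : S, u * w * u⁻¹ = w⁻¹ → w * w * (w * w) = 1 → w * w ≠ 1 → w * w = ⁅y, u⁆ :=
    fun w w1 w3 w4 => by
      rw [sq_eq w1] at w4 ⊢
      exact nb w (h.dih hS hu hu' w1 w3) fun k => w4 (cmc k hu).commutator_eq
  have k := key (γ.symm w) (by simpa using congrArg γ.symm w2) (by simpa using congrArg γ.symm w3)
    (fun l => w4 (by simpa using congrArg γ l))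
  have fx : γ ⁅y, u⁆ = ⁅y, u⁆ := by
    rw [← key w w1 w3 w4] at k ⊢
    simpa using (congrArg γ k).symm
  rintro _ ⟨z, ⟨hz, x, hx, y1, hy1, rfl⟩, rfl⟩
  have x1 : x ∉ 𝐂(X') := fun l => hz (cmc l hy1).commutator_eq
  have y2 : y1 ∉ 𝐂(X) := fun l => hz (cmc l hx).symm.commutator_eq
  have x2 : u * x ∈ 𝐂(X') := by_contra fun l => hq ⟨u, hu, x, hx, hu', x1, l⟩
  have e3 : ⁅x, y1⁆ = ⁅y, u⁆ := by
    rw [cm_symm h hx hy1, ← nb y1 (h.le hy1) y2, ← cm2 (y := u) (cmc x2 hy1), ← mul_assoc,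
      h.sq u hu, one_mul]
  rw [e3, fx, ← e3]
  exact ⟨hz, x, hx, y1, hy1, rfl⟩

theorem two (hS : IsPGroup 2 S) (h : Bt p n X X' X₀) (σ : MulAut S)
    (e1 : X.map σ.toMonoidHom = X') (e2 : X'.map σ.toMonoidHom = X) (γ : MulAut S) :
    (X.map γ.toMonoidHom ≤ 𝐂(X) ∧ X'.map γ.toMonoidHom ≤ 𝐂(X)) ∨ γ '' Gm X X' = Gm X X' := by
  by_cases a1 : X.map γ.toMonoidHom ≤ 𝐂(X)
  swap
  · exact .inr (one hS h σ e1 e2 γ a1)
  by_cases a2 : X'.map γ.toMonoidHom ≤ 𝐂(X)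
  · exact .inl ⟨a1, a2⟩
  have := one hS h σ e1 e2 (γ * σ) (by rwa [← e1, map_map] at a2)
  have e3 : σ '' Gm X X' = Gm X X' := by
    rw [← gm_symm h]
    refine (Gm.image (f := σ.toMonoidHom) σ.injective X' X).trans ?_
    rw [e1, e2, gm_symm h]
  right
  calc γ '' Gm X X' = γ '' (σ '' Gm X X') := by rw [e3]
    _ = (γ * σ) '' Gm X X' := by rw [Set.image_image]; rfl
    _ = _ := this

/-- the pair of blocks inside a characteristic subgroup -/
theorem exists_bt (hS : IsPGroup 2 S) {s : S} (h : Bk X X₀ s) :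
    ∃ E : Subgroup S, E.Characteristic ∧ X ≤ E ∧ ∃ p n : ℕ,
      Bt p n (X.subgroupOf E) ((X ^ᶜ s).subgroupOf E) (X₀.subgroupOf E) := by
  classical
  haveI : Fact (Nat.Prime 2) := ⟨Nat.prime_two⟩
  haveI := hS.isNilpotent
  have hex : ∃ j, ¬ Subgroup.upperCentralSeries S j ≤ 𝐂(X) := by
    obtain ⟨n, e⟩ := Group.IsNilpotent.nilpotent S
    exact ⟨n, fun h1 => h.ne (le_centralizer_iff.1 (le_top.trans (e ▸ h1)))⟩
  have h0 := Nat.find_spec hex
  obtain ⟨j, hj⟩ : ∃ j, Nat.find hex = j + 1 := Nat.exists_eq_succ_of_ne_zero fun e => by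
    rw [e, Subgroup.upperCentralSeries_zero] at h0
    exact h0 bot_le
  have h1 : Subgroup.upperCentralSeries S j ≤ 𝐂(X) := by
    by_contra e
    exact Nat.find_min hex (by omega) e
  rw [hj] at h0
  obtain ⟨x0, hx, hx'⟩ := SetLike.not_le_iff_exists.1 h0
  have h2 := Subgroup.mem_upperCentralSeries_succ_iff.1 hx
  set Z := Subgroup.upperCentralSeries S j
  have Zn : Z.Normal := inferInstance
  set E := 𝐂(Z)
  have Ec : E.Characteristic := inferInstance
  have hE : ∀ a : MulAut S, ∀ x ∈ E, MonoidHom.id _ a x ∈ E := fun a x hx =>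
    characteristic_iff_le_comap.1 Ec a hx
  have XE : X ≤ E := le_centralizer_iff.1 h1
  have XE' : X ^ᶜ s ≤ E := by
    rintro _ ⟨x, hx, rfl⟩
    exact hE _ x (XE hx)
  have sq : ∀ x ∈ X, x * x = 1 := fun x hx => by rw [← pow_two, h.ea.2 x hx]
  have dc : ∀ t ∈ X ^ᶜ s ⊔ 𝐂(X), ∃ y ∈ X ^ᶜ s, ∃ c ∈ 𝐂(X), t = y * c :=
    (H45.mulEq_of_norm' (h.le.trans (normalizer_le_normalizer_centralizer X))).2.2
  have h3 : x0 ∈ 𝐍(X) := h.nrm ⊤ inferInstance le_top le_top (by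
    rw [inf_top_eq]
    refine mem_normalizer_of_cj_le fun y hy => ?_
    obtain ⟨c, hc, rfl⟩ := mem_cj'.1 hy
    have := mul_mem (h1 (h2 c)) hc
    rwa [commutatorElement_def, inv_mul_cancel_right] at this)
  obtain ⟨y, hy, c, hc, rfl⟩ := dc x0 (h.lin1 x0 h3 fun x _ => le_centralizer_iff.1 XE' (h2 x))
  have y1 : y ∉ 𝐂(X) := fun k => hx' (mul_mem k hc)
  have y2 : ∀ x ∈ X, ⁅y, x⁆ ∈ Z := fun x hx => cm1 (y := y) (cmc hc hx) ▸ h2 x
  have ss : (X ^ᶜ s) ^ᶜ s = X := by rw [cj_cj, cj_eq_of_mem_normalizer h.ss]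
  exact ⟨E, Ec, XE, _, _,
    { sq := fun x hx => Subtype.ext (sq x hx)
      ab := by
        rw [cent_sub XE]
        exact comap_mono (le_centralizer_iff_isMulCommutative.2 h.ea.1)
      nn := by
        rw [← subgroupOf_normalizer_eq XE, ← subgroupOf_normalizer_eq XE']
        exact comap_mono h.nn
      le := by
        rw [← subgroupOf_normalizer_eq XE]
        exact comap_mono h.le
      nrm := by
        rw [cent_sub XE, ← inf_subgroupOf_right, ← subgroupOf_normalizer_eq XE,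
          ← subgroupOf_normalizer_eq inf_le_right]
        exact comap_mono (h.nrm E Ec XE ((oc_le_cent ⊤).trans
          (centralizer_le (SetLike.coe_subset_coe.2 le_top))))
      dec := by
        rw [cent_sub XE, ← subgroupOf_normalizer_eq XE]
        intro t ht
        obtain ⟨y', hy', c', hc', e⟩ := dc t (h.lin2 t ht fun z hz => by
          obtain ⟨x, hx, k⟩ := h.cov y hy y1 z hz
          refine ⟨_, k, ?_⟩
          rw [← mul_assoc, sq z hz.1, one_mul, ← commutatorElement_inv]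
          exact (cmc t.2 (y2 x hx)).inv_right)
        refine ⟨⟨y', XE' hy'⟩, hy', ⟨c', ?_⟩, hc', Subtype.ext e⟩
        simpa [e] using mul_mem (inv_mem (XE' hy')) t.2
      reg := by
        rw [cent_sub XE, cent_sub XE']
        exact fun x hx k y hy l => h.reg x hx k y hy l
      nc := by
        rw [cent_sub XE]
        exact fun a ha b hb => h.nc a ha b hb
      nsq := by
        rw [cent_sub XE]
        exact fun a ha => h.nsq a ha
      ex := by
        rw [cent_sub XE']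
        have k : s * y * s⁻¹ ∈ X := ss ▸ cj_mem s hy
        refine ⟨⟨_, XE k⟩, k, Bt.cj_nmem y1 s, fun y' hy' g => Subtype.ext ?_⟩
        obtain ⟨x, hx, e⟩ := mem_cj'.1 hy'
        have := Zn.conj_mem _ (inv_mem (y2 x hx)) s
        rw [commutatorElement_inv, conjugate_commutatorElement, ← e] at this
        exact cmc g.2 this
      cp := rfl
      cn := rfl }⟩

end N1

open P4a in
/-- an arbitrary automorphism moves the block and its partner into `C(X)` or fixes the commutators -/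
theorem Bk.dich (hS : IsPGroup 2 S) {X X₀ : Subgroup S} {s : S} (h : Bk X X₀ s) (γ : MulAut S) :
    (X.map γ.toMonoidHom ≤ 𝐂(X) ∧ (X ^ᶜ s).map γ.toMonoidHom ≤ 𝐂(X)) ∨
      γ '' Gm X (X ^ᶜ s) = Gm X (X ^ᶜ s) := by
  obtain ⟨E, Ec, XE, p, n, B⟩ := N1.exists_bt hS h
  have hE : ∀ a : MulAut S, ∀ x ∈ E, MonoidHom.id _ a x ∈ E := fun a x hx =>
    characteristic_iff_le_comap.1 Ec a hx
  have XE' : X ^ᶜ s ≤ E := by
    rintro _ ⟨x, hx, rfl⟩
    exact hE _ x (XE hx)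
  have ss : (X ^ᶜ s) ^ᶜ s = X := by rw [cj_cj, cj_eq_of_mem_normalizer h.ss]
  have := N1.two (hS.to_subgroup E) B (H2.subAut (MonoidHom.id _) E hE (MulAut.conj s))
    (map_sbg hE _) (by rw [map_sbg, ss]) (H2.subAut (MonoidHom.id _) E hE γ)
  rcases this with ⟨a1, a2⟩ | a
  · rw [map_sbg, cent_sub XE] at a1 a2
    left
    constructor
    · rintro _ ⟨x, hx, rfl⟩
      exact a1 (x := ⟨_, hE γ x (XE hx)⟩) (mem_map_of_mem _ hx)
    · rintro _ ⟨x, hx, rfl⟩
      exact a2 (x := ⟨_, hE γ x (XE' hx)⟩) (mem_map_of_mem _ hx)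
  · right
    have e := Gm.image (f := E.subtype) E.subtype_injective (X.subgroupOf E) ((X ^ᶜ s).subgroupOf E)
    rw [map_subgroupOf_eq_of_le XE, map_subgroupOf_eq_of_le XE'] at e
    rw [← e]
    conv_rhs => rw [← a]
    rw [Set.image_image, Set.image_image]
    rfl

end H42.FP
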