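import Mathlib
import Cfsg.Agent.Base
import Cfsg.Agent.Lib.Fpf.F2
import Cfsg.Agent.Lib.Fpf.N1

/-! The block configuration in the Sylow subgroup, without operators. -/

set_option autoImplicit false
set_option linter.unusedSectionVars false
set_option linter.style.haveILetI false

namespace H42.FP

open Subgroup H69 H68B Cfsg
open H1.OA (Cfg)
open F2 (cm_mem cm_mem')
open scoped commutatorElement

local notation "𝐁(" T ")" => baumannSubgroupOf 2 T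
local notation "𝐕(" T ")" => omegaOneCenter 2 T

variable {G : Type*} [Group G] [Finite G]

namespace F3

/-- the hypotheses of the final contradiction -/
structure Hy (q : ℕ) (S B Q P K X : Subgroup G) (s : G) : Prop where
  hS : IsSylowIn 2 S ⊤
  mx : Mx B
  hB : 𝐁(S ⊓ 𝐍(Q)) = B
  st : St q B Q s
  hs : s ∈ S
  g : Bg (S ⊓ 𝐍(Q)) B Q P K X
  hv : ¬ 𝐕(S) ≤ 𝐂(K)

namespace Hy

variable {q : ℕ} {S B Q P K X K' : Subgroup G} {s : G}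
  (h : Hy q S B Q P K X s)
include h

theorem BT : B ≤ S ⊓ 𝐍(Q) := h.hB.ge.trans (bau_le _)
theorem TB : S ⊓ 𝐍(Q) ≤ 𝐍(B) := h.hB ▸ le_normalizer_bau _
theorem BS : B ≤ S := h.BT.trans inf_le_left
theorem QS : Q ≤ S := h.st.QB.trans h.BS
theorem XQ : X ≤ Q := h.g.XQ.trans (oc_le Q)
theorem XS : X ≤ S := h.XQ.trans h.QS
theorem ea : IsElementaryAbelian 2 X := H24.EA.mono (oc_ea Q) h.g.XQ
theorem sq {x : G} (hx : x ∈ X) : x * x = 1 := by rw [← pow_two, h.ea.2 x hx]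
theorem QC : Q ≤ 𝐂(X) := le_centralizer_comm.1 (h.g.XQ.trans (oc_le_cent Q))
theorem PT : P ≤ S ⊓ 𝐍(Q) := h.g.cent.ge.trans inf_le_left
theorem PC : P ≤ 𝐂(X) := h.g.cent.ge.trans inf_le_right
theorem QP : Q ≤ P := (le_inf (h.st.QB.trans h.BT) h.QC).trans h.g.cent.le
theorem XP : X ≤ P := h.XQ.trans h.QP
theorem nP : S ⊓ 𝐍(Q) ≤ 𝐍(P) :=
  h.g.cent ▸ le_normalizer_inf le_normalizer (le_normalizer_centralizer h.g.nX)
theorem VT : 𝐕(S) ≤ S ⊓ 𝐍(Q) :=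
  le_inf (oc_le S) (H45.cents_norm ((oc_le_cent S).trans (centralizer_anti h.QS)))
theorem VQ : 𝐕(S) ≤ 𝐕(Q) := (h.hB ▸ OF.oc_le_bau h.VT inf_le_left).trans h.st.ZX
theorem VP : 𝐕(S) ≤ P := h.VQ.trans ((oc_le Q).trans h.QP)

theorem BC : B ⊓ 𝐂(X) ≤ Q := by
  obtain ⟨x, hx, hx'⟩ := SetLike.not_le_iff_exists.1 h.g.nz
  exact fun b hb => h.st.reg (h.g.XQ hx) hx'
    ⟨hb.1, mem_centralizer_singleton_iff.2 (hb.2 x hx).symm⟩

theorem nK (h1 : X ≤ K') (h2 : K' ≤ P) : K ≤ 𝐍(K') := fun k hk =>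
  H24.mem_normalizer_of_conj_mem fun c hc => by
    have := mul_mem (h1 (h.g.cm k hk c (h2 hc))) hc
    rwa [commutatorElement_def, inv_mul_cancel_right] at this

theorem bad (h1 : X ≤ K') (h2 : 𝐕(S) ≤ K') (h3 : K' ≤ P) : Bad S K' := by
  refine ⟨h.hS, h3.trans (h.PT.trans inf_le_left), fun e => ?_⟩
  obtain ⟨v, hv, hv'⟩ : ∃ v ∈ 𝐕(S), v ∉ 𝐂(K) := SetLike.not_le_iff_exists.1 h.hv
  obtain ⟨g, hg, k⟩ := h.g.mv v (OF.oc_le_oc h.VT inf_le_left hv) hv'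
  refine k (h.st.noW (le_centralizer_iff_isMulCommutative.2 (ww_ea S).1)
    (norm_le_ww S (le_normalizer h.hs)) ⟨?_, ?_⟩)
  · exact (conj_mem_of_mem_normalizer (Mh.norm_inf (e (h.nK h1 h3 hg)))
      (mem_inf.2 ⟨oc_le_ww S hv, h2 hv⟩)).1
  · exact conj_mem_of_mem_normalizer (le_normalizer_oc h.g.nQ hg) (h.VQ hv)

theorem bad' (h1 : X ≤ K') (h2 : 𝐕(S) ≤ K') (h3 : K' ≤ P) (h4 : B ≤ 𝐍(K')) :
    S ⊓ 𝐍(K') ≤ 𝐍(B) := by
  have e := h.mx.bau_eq (h.bad h1 h2 h3) (le_inf h.BS h4)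
  rw [← h.hB, bau_bau, h.hB] at e
  exact e ▸ le_normalizer_bau _

theorem NX : S ⊓ 𝐍(X) ≤ S ⊓ 𝐍(Q) := by
  have h1 : S ≤ 𝐍(𝐕(S)) := le_normalizer_oc le_normalizer
  have h2 := h.bad' le_sup_left le_sup_right (sup_le h.XP h.VP)
    (le_normalizer_sup (h.BT.trans h.g.nX) (h.BS.trans h1))
  rw [← le_antisymm h.BC (le_inf h.st.QB h.QC)]
  exact le_inf inf_le_left (le_normalizer_inf ((le_inf inf_le_left (le_normalizer_sup inf_le_right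
    (inf_le_left.trans h1))).trans h2) (le_normalizer_centralizer inf_le_right))

theorem CX : S ⊓ 𝐂(X) ≤ P :=
  (le_inf ((inf_le_inf_left _ (centralizer_le_normalizer _)).trans h.NX) inf_le_right).trans h.g.cent.le

theorem TQ' : S ⊓ 𝐍(Q) ≤ 𝐍(Q ^ᶜ s) := (le_inf h.TB inf_le_right).trans h.st.nn

theorem nn : S ⊓ 𝐍(Q) ≤ 𝐍(X ^ᶜ s) := fun t ht => by
  rw [← cj_normalizer, mem_cj]
  refine h.g.nX ⟨S.mul_mem (S.mul_mem (S.inv_mem h.hs) ht.1) h.hs, ?_⟩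
  have := h.TQ' ht
  rwa [← cj_normalizer, mem_cj] at this

theorem ss : s * s ∈ 𝐍(X) := h.g.nX ⟨mul_mem h.hs h.hs, h.st.ss⟩

theorem X'B : X ^ᶜ s ≤ B := (cj_mono s h.g.XQ).trans (h.st.XB h.st.sB)

theorem sup' : 𝐕(Q) ^ᶜ s ≤ X ^ᶜ s ⊔ Q := by
  refine (cj_mono s h.g.sup).trans ?_
  rw [cj_sup, cj_eq_of_mem_normalizer (le_normalizer_oc le_rfl h.st.sB)]
  exact sup_le_sup_left (h.st.ZX.trans (oc_le Q)) _

theorem nle : ¬ X ^ᶜ s ≤ Q := fun e => h.st.nle (h.sup'.trans (sup_le e le_rfl))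

theorem Ble : B ≤ X ^ᶜ s ⊔ P :=
  h.st.sup.le.trans (sup_le (h.sup'.trans (sup_le_sup_left h.QP _)) (h.QP.trans le_sup_right))

theorem cB {x : G} (hx : x ∈ X) (hx' : x ∈ 𝐂(X ^ᶜ s)) : x ∈ 𝐂(B) := by
  by_contra e
  exact h.nle fun y hy => h.st.reg (h.g.XQ hx) e
    ⟨h.X'B hy, mem_centralizer_singleton_iff.2 (hx' y hy)⟩

theorem nrm {E : Subgroup G} (h1 : S ≤ 𝐍(E)) (h2 : X ≤ E) (h3 : 𝐕(S) ≤ E) :
    S ⊓ 𝐍(P ⊓ E) ≤ 𝐍(X) := fun g hg => by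
  have h4 := h.bad' (le_inf h.XP h2) (le_inf h.VP h3) inf_le_left
    (le_normalizer_inf (h.BT.trans h.nP) (h.BS.trans h1)) hg
  refine h.g.nX ⟨hg.1, h.st.nn' ⟨h4, cj_eq_self_iff.1 ?_⟩⟩
  rw [cj_cj]
  refine h.st.uniq (mul_mem h4 h.st.sB) fun e => h.nle ?_
  have h5 : X ^ᶜ (g * s) ≤ P ⊓ E := le_inf ((cj_mono _ h.g.XQ).trans (e.trans h.QP))
    (cj_le_of_mem_normalizer h2 (h1 (mul_mem hg.1 h.hs)))
  rw [← cj_cj, cj_le_iff, cj_eq_of_mem_normalizer (inv_mem hg.2)] at h5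
  exact (le_inf h.X'B (h5.trans (inf_le_left.trans h.PC))).trans h.BC

theorem act {k a : G} (hk : k ∈ K) (ha : a ∈ P) :
    ∃ x ∈ X, k * a * k⁻¹ = x * a := ⟨_, h.g.cm k hk a ha, by rw [commutatorElement_def]; group⟩

theorem nc {a b : G} (ha : a ∈ P) (hb : b ∈ P) : ⁅a, b⁆ ∈ 𝐂(K) := fun k hk => by
  obtain ⟨x, hx, e1⟩ := h.act hk ha
  obtain ⟨y, hy, e2⟩ := h.act hk hb
  have c1 : Commute x (y * b) := h.PC (mul_mem (h.XP hy) hb) x hx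
  have c2 : Commute x a := h.PC ha x hx
  have c3 : Commute y a := h.PC ha y hy
  have c4 : Commute y b := h.PC hb y hy
  rw [← mul_inv_eq_iff_eq_mul, conjugate_commutatorElement, e1, e2, c2.eq, P4a.cm1 c1, c4.eq,
    P4a.cm2 c3]

theorem nsq {a : G} (ha : a ∈ P) : a * a ∈ 𝐂(K) := fun k hk => by
  obtain ⟨x, hx, e1⟩ := h.act hk ha
  have c2 : Commute x a := h.PC ha x hx
  rw [← mul_inv_eq_iff_eq_mul, show k * (a * a) * k⁻¹ = (k * a * k⁻¹) * (k * a * k⁻¹) by group, e1,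
    mul_assoc, ← mul_assoc a, ← c2.eq, ← mul_assoc, ← mul_assoc, h.sq hx, one_mul]

theorem bk : Bk (X.subgroupOf S) ((X ⊓ 𝐂(K)).subgroupOf S) ⟨s, h.hs⟩ := by
  have e1 : X.subgroupOf S ^ᶜ (⟨s, h.hs⟩ : S) = (X ^ᶜ s).subgroupOf S := subgroupOf_cj X S _
  have X'S : X ^ᶜ s ≤ S := h.X'B.trans h.BS
  have PS : P ≤ S := h.PT.trans inf_le_left
  have e2 : 𝐂(X.subgroupOf S) = P.subgroupOf S := by
    rw [P4a.cent_sub h.XS, ← inf_subgroupOf_left, le_antisymm h.CX (le_inf PS h.PC)]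
  have e3 := P4a.cent_sub X'S
  have e4 := (subgroupOf_normalizer_eq h.XS).symm
  have e5 := (subgroupOf_normalizer_eq X'S).symm
  have cc : 𝐂(B) ≤ 𝐂(X ^ᶜ s) := centralizer_anti h.X'B
  have nX' : X ^ᶜ s ≤ 𝐍(X) := h.X'B.trans (h.BT.trans h.g.nX)
  have nq : ∀ y, y ∈ S → y ∉ P → y ∉ Q := fun y _ k l => k (h.QP l)
  have lin : B ⊔ P ≤ X ^ᶜ s ⊔ P := sup_le h.Ble le_sup_right
  constructor <;> try simp only [e1, e2, e3, e4, e5, ← subgroupOf_sup X'S PS]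
  · exact H24.EA.subgroupOf h.ea S
  · exact h.ss
  · exact fun t ht => h.nn (h.NX ⟨t.2, ht⟩)
  · exact fun e => h.g.nz fun x hx => h.cB hx (@e ⟨x, h.XS hx⟩ hx)
  · exact comap_mono nX'
  · intro E hE k1 k2 g hg
    have n : S ≤ 𝐍(E.map S.subtype) := (H45.charIn_map_subtype hE).normalIn.2
    rw [← subgroupOf_map_subtype' E, show P.subgroupOf S ⊓ (E.map S.subtype).subgroupOf S =
      (P ⊓ E.map S.subtype).subgroupOf S from rfl,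
      ← subgroupOf_normalizer_eq (inf_le_left.trans PS)] at hg
    refine h.nrm n ((subgroupOf_le_iff h.XS).1 k1) ?_ ⟨g.2, hg⟩
    have := map_mono (f := S.subtype) k2
    rwa [omegaOneCenter, H24.map_omegaOne S.subtype_injective,
      H24.map_inf_centralizer S.subtype_injective, map_subtype_top] at this
  · exact fun x hx y hy => cc (h.g.quad x hx y (h.X'B hy))
  · exact fun x hx k y hy l m => h.g.reg x hx (fun e => k (cc e)) y (h.X'B hy) (nq _ y.2 l) m.2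
  · intro y hy l z hz
    obtain ⟨x, hx, k⟩ := h.g.cov y (h.X'B hy) (nq _ y.2 l) z ⟨hz.1, h.cB hz.1 hz.2⟩
    exact ⟨⟨x, h.XS hx⟩, hx, mul_mem hz.1 (cm_mem hx (nX' hy)), k⟩
  · exact fun t ht k => lin (h.g.lin1 t (h.NX ⟨t.2, ht⟩) fun x hx =>
      h.cB (cm_mem' hx ht) (k ⟨x, h.XS hx⟩ hx))
  · refine fun t ht k => lin (h.g.lin2 t (h.NX ⟨t.2, ht⟩) fun z hz => ?_)
    obtain ⟨c, hc, l⟩ := k ⟨z, h.XS hz.1⟩ ⟨hz.1, cc hz.2⟩
    exact ⟨c, hc, congrArg Subtype.val l⟩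
  · exact fun a ha b hb k => ⟨k, h.nc ha hb⟩
  · exact fun a ha k => ⟨k, h.nsq ha⟩

theorem gm : Gm 𝐕(Q) (𝐕(Q) ^ᶜ s) = Gm X (X ^ᶜ s) := by
  have XB : X ≤ B := h.XQ.trans h.st.QB
  have dc : ∀ v ∈ 𝐕(Q), ∃ x ∈ X, ∃ z ∈ 𝐕(B), v = x * z := fun v hv =>
    (mem_sup_of_le_normalizer_right (XB.trans (le_normalizer_oc le_normalizer))).1 (h.g.sup hv)
  refine Set.Subset.antisymm ?_ fun z ⟨h1, x, hx, y, hy, e⟩ =>
    ⟨h1, x, h.g.XQ hx, y, cj_mono s h.g.XQ hy, e⟩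
  rintro _ ⟨h1, v, hv, w, hw, rfl⟩
  obtain ⟨w, hw', rfl⟩ := mem_cj'.1 hw
  obtain ⟨x, hx, z, hz, rfl⟩ := dc v hv
  obtain ⟨y, hy, u, hu, rfl⟩ := dc w hw'
  refine ⟨h1, x, hx, _, cj_mem s hy, ?_⟩
  rw [P4a.cm1 (P4a.cmc (oc_le_cent B hz) (h.st.XB h.st.sB hw)), ← conj_mul, P4a.cm2 (P4a.cmc
    (oc_le_cent B (conj_mem_of_mem_normalizer (le_normalizer_oc le_rfl h.st.sB) hu)) (XB hx))]

theorem dich {γ : MulAut G} (hγ : ∀ x ∈ S, γ x ∈ S) : γ '' Gm X (X ^ᶜ s) = Gm X (X ^ᶜ s) ∨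
    ∀ z ∈ Gm X (X ^ᶜ s), ∃ a ∈ P, ∃ b ∈ P, γ z = ⁅a, b⁆ := by
  obtain ⟨α, -, hα⟩ := OF.exists_res hγ (pow_orderOf_eq_one γ)
  have X'S : X ^ᶜ s ≤ S := h.X'B.trans h.BS
  have e0 := h.bk.dich h.hS.isP α
  rw [subgroupOf_cj, P4a.cent_sub h.XS] at e0
  refine e0.symm.imp (fun e => ?_) ?_
  · have e1 := Gm.image S.subtype_injective (X.subgroupOf S) ((X ^ᶜ s).subgroupOf S)
    rw [map_subgroupOf_eq_of_le h.XS, map_subgroupOf_eq_of_le X'S] at e1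
    rw [← e1, Set.image_image]
    nth_rewrite 2 [← e]
    rw [Set.image_image]
    exact Set.image_congr fun x _ => (hα x).symm
  · rintro ⟨e1, e2⟩ _ ⟨-, x, hx, y, hy, rfl⟩
    exact ⟨_, h.CX ⟨hγ x (h.XS hx), hα ⟨x, h.XS hx⟩ ▸ e1 (mem_map_of_mem _ hx)⟩, _,
      h.CX ⟨hγ y (X'S hy), hα ⟨y, X'S hy⟩ ▸ e2 (mem_map_of_mem _ hy)⟩, map_commutatorElement γ x y⟩

theorem gm_le {z : G} (hz : z ∈ Gm X (X ^ᶜ s)) : z ∈ X := by
  obtain ⟨-, x, hx, y, hy, rfl⟩ := hz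
  exact cm_mem hx (h.g.nX (h.BT (h.X'B hy)))

end Hy

end F3

end H42.FP
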