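import Mathlib
import Cfsg.Agent.Base
import Cfsg.Agent.Lib.Fpf.Core
import Cfsg.Agent.Lib.Fpf.F3
import Cfsg.Agent.Lib.Fpf.N4

/-! `W(S)` is strongly closed, for an arbitrary operator group. -/

set_option autoImplicit false
set_option linter.unusedSectionVars false
set_option linter.style.haveILetI false

namespace H42.FP

open Subgroup H69 H68.Push H59.MP H68B Cfsg
open H1.OA (Cfg)
open OF (Lf tr_J tr_B tr_inc)
open scoped commutatorElement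

universe u

local notation "𝐁(" T ")" => baumannSubgroupOf 2 T
local notation "𝐉(" T ")" => thompsonSubgroupOf 2 T
local notation "𝐕(" T ")" => omegaOneCenter 2 T

variable {A : Type*} {G : Type u} [Group A] [Finite A] [Group G] [Finite G]

theorem Md.not_norm2 {S C Y P K : Subgroup G} {H : Type*} [Group H] [Finite H] {f : Y →* H}
    {j : (S ⊓ 𝐍(C) : Subgroup G) →* H} {M : Subgroup H} {φ : A →* MulAut G}
    (m : Md S C (S ⊓ 𝐍(C)) Y P f j M) (n : NP G) (mx : Mx (S ⊓ 𝐍(C))) (d : Dat2 φ S)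
    (hS : IsSylowIn 2 S ⊤) (PC : P ≤ C) (hV : 𝐕(S) ≤ K) (hK : K ≤ P) (k2 : Y ≤ 𝐍(K))
    (k3 : 𝐍(K) ≤ Mh S K) : False := by
  have VR := hV.trans (hK.trans m.PR)
  have k0 : ww S ⊓ K ≤ P := inf_le_right.trans hK
  have k4 := (m.normal_iff k0).2 fun g hg => Mh.norm_inf (k3 (k2 hg))
  haveI := normal_iff_top_le_normalizer.2 (m.pm.inf_normal (le_normalizer_centralizer k4)
    ((centralizer_anti (map_mono (comap_mono (le_inf (oc_le_ww S) hV)))).trans (m.cV2 d hS.isP VR)))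
  have k5 : S ⊓ 𝐍(C) ⊓ 𝐂(ww S) ≤ P := (m.le_P_iff inf_le_left).1 (le_trans (by
    rintro _ ⟨x, hx, rfl⟩
    exact ⟨⟨x, rfl⟩, m.fj x ⟨x, m.RY x.2⟩ rfl ▸ (m.cent k0 _).2
      (centralizer_anti inf_le_left hx.2)⟩) (H1.le_pCore (m.pm.syl.isP.to_le inf_le_left)))
  have CS := m.CP.trans (m.PR.trans m.RS)
  have k6 : ww S ≤ C := by
    by_contra e
    refine (lt_inf_normalizer_of_lt (hS.isP.to_le (sup_le CS (ww_le S))) (lt_of_le_not_ge
      le_sup_left fun e1 => e (le_sup_right.trans e1))).not_ge ?_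
    rw [dedekind_right (CS.trans (le_normalizer.trans (norm_le_ww S))) le_normalizer]
    exact sup_le le_rfl ((le_inf (inf_le_inf_right _ (ww_le S))
      (inf_le_left.trans (H24.EA.le_centralizer (ww_ea S)))).trans (k5.trans PC))
  have k7 : 𝐉(S ⊓ 𝐍(C)) ≤ P := H24.thompsonSubgroupOf_le_iff.2 fun E hE =>
    (le_inf hE.1 (d.vg E (hE.1.trans inf_le_left) hE.2.1
      ((off_le hE (ww_ea S) (k6.trans (m.CP.trans m.PR))).trans (by omega)))).trans k5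
  refine m.nJ2 n mx d hS VR (tr_J m.lf.ij ▸ (m.normal_iff k7).2 ?_)
  rw [← H24.thompsonSubgroupOf_eq_of_le k7 m.PR]
  exact m.YP.trans (H24.normalizer_le_normalizer_thompsonSubgroupOf P)

theorem stage12 (hy : ∀ S : Subgroup G, IsSylowIn 2 S ⊤ → ∃ φ : A →* MulAut G, Dat2 φ S)
    {S C : Subgroup G} (b : Bad S C) : ∃ (S B Q : Subgroup G) (q : ℕ) (s : G), Bad S Q ∧ Mx B ∧
      𝐁(B) = B ∧ B ≤ S ∧ St q B Q s := by
  have n := np2 hy
  obtain ⟨S, C, b, mx, hR, -, hm⟩ := exists_ext n b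
  have CR : C ≤ S ⊓ 𝐍(C) := le_inf b.le le_normalizer
  obtain ⟨Y, P, H, _, _, f, j₀, M, m⟩ := exists_md inf_le_left CR hR
    (le_sup_right.trans (hm _ (b.ext hR).1 le_sup_left (b.ext hR).2))
    ((inf_le_inf_right _ (mx.nb n b.syl inf_le_left)).trans (Mh_anti CR)) b.nM
  have PC := hm P ⟨b.syl, m.PR.trans m.RS, fun e => m.nY
    ((le_inf (m.YP.trans e) m.YC).trans (Mh_anti m.CP))⟩ m.CP (m.RY.trans m.YP)
  obtain ⟨φ, d⟩ := hy S b.syl
  have VR : 𝐕(S) ≤ S ⊓ 𝐍(C) := le_inf (oc_le S) (le_normalizer_of_le_centralizer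
    ((oc_le_cent S).trans (centralizer_anti b.le)))
  obtain ⟨q, L, pu⟩ := exists_pu m.pm m.chr (m.nC2 d b.syl.isP VR) (m.nJ2 n mx d b.syl VR)
  have BR := bau_le (p := 2) (S ⊓ 𝐍(C))
  have VB := OF.oc_le_bau VR m.RS
  have l : Lf 𝐁(S ⊓ 𝐍(C)).subtype (j₀.comp (inclusion BR)) := m.lf.pre (inclusion_injective BR)
  rw [← tr_B m.lf.ij, ← tr_inc BR le_rfl, subgroupOf_self, ← MonoidHom.range_eq_map] at pu
  obtain ⟨s, hs, st⟩ := push_st (N := S ⊓ 𝐍(𝐁(S ⊓ 𝐍(C)))) l.ij pu inf_le_right VB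
    (inf_le_left.trans (le_normalizer_oc le_normalizer)) fun K k1 k2 k3 k4 => by
    rw [tr_inc BR k2] at k4
    have k5 : ⊤ ≤ 𝐍((K.subgroupOf (S ⊓ 𝐍(C))).map j₀) := by
      refine (m.pm.sup_eq_top pu.ne).ge.trans (sup_le k4 ?_)
      rw [MonoidHom.range_eq_map, le_normalizer_map_iff m.lf.ij, ← normal_iff_top_le_normalizer,
        normal_iff_le_normalizer_map, map_subgroupOf_eq_of_le (k2.trans BR)]
      exact (le_inf m.RS (le_normalizer_bau _)).trans k3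
    have k6 := m.le_P (k2.trans BR) k5
    refine m.not_norm2 n mx d b.syl PC k1 k6 ((m.normal_iff k6).1 k5) ?_
    by_contra e
    exact mx.cl n ⟨b.syl, k2.trans (BR.trans m.RS), e⟩ m.RS k3
  refine ⟨S, _, _, q, s, ⟨b.syl, st.QB.trans (BR.trans m.RS), fun e => pu.ne ?_⟩, mx.bau,
    bau_bau _, BR.trans m.RS, st⟩
  refine le_trans (pu.le_centralizer_of_normal (ncl_le_iff.2 fun h hh w hw => ?_)
    (le_normalizer_ncl _ L)) ((centralizer_anti (le_ncl _ L)).trans (m.cV2 d b.syl.isP VR))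
  rw [← tr_inc BR (VB.trans (oc_le _))] at hw
  obtain ⟨_, ⟨v, hv, rfl⟩, rfl⟩ := mem_cj'.1 hw
  obtain ⟨g, hg, e1⟩ := l.exists_norm (K := (pCoreOf 2 L).comap _) (h := h)
    (by rw [map_comap_eq_self pu.Q_le]; exact pu.normQ hh)
  have v1 := st.ZX (VB hv)
  have v2 := (mem_map_iff_mem (subtype_injective _)).1 (oc_le _ v1)
  obtain ⟨y, hy⟩ := pu.Q_le (conj_mem_of_mem_normalizer (pu.normQ hh) v2)
  have y1 := st.noW (H24.EA.le_centralizer (ww_ea S)) (norm_le_ww S (le_normalizer hs.1))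
    (x := g * v * g⁻¹) ⟨(conj_mem_of_mem_normalizer (Mh.norm_inf (e hg))
      ⟨oc_le_ww S hv, oc_le _ v1⟩).1, conj_mem_of_mem_normalizer (le_normalizer_oc le_rfl hg) v1⟩
  rw [← show (y : G) = g * v * g⁻¹ from e1 v v2 y hy] at y1
  rw [← hy]
  rintro _ ⟨x, rfl⟩
  rw [← map_mul, ← map_mul]
  exact congrArg _ (Subtype.ext (y1 x x.2))

theorem Md.exists_fd {S Q T Y P : Subgroup G} {H : Type u} [Group H] [Finite H] {f : Y →* H}
    {j : T →* H} {M : Subgroup H} (m : Md S Q T Y P f j M) (h1 : 𝐂(𝐕(j.range)) ≤ M)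
    (h2 : ¬ ⊤ ≤ 𝐍(𝐉(j.range))) {q : ℕ} {s : G} (st : St q 𝐁(T) Q s) :
    ∃ K D, Fd (Gm 𝐕(Q) (𝐕(Q) ^ᶜ s)) K D ∧ ∀ a ∈ P, ∀ b ∈ P, ⁅a, b⁆ ∈ centralizer K := by
  have h0 : ¬ ⊤ ≤ 𝐂(𝐕(j.range)) := fun e => m.pm.ne_top (top_le_iff.1 (e.trans h1))
  obtain ⟨X, bm⟩ := m.bm h0 h2 st
  obtain ⟨q', L, pu⟩ := exists_pu m.pm m.chr h0 h2
  have BT := bau_le (p := 2) T
  have QT := st.QB.trans BT
  have X'T := (st.XB st.sB).trans BT
  have tr : ∀ {Q W : Subgroup G}, Cfg q 𝐁(T) 𝐕(𝐁(T)) Q W → Cfg q 𝐁(j.range) 𝐕(𝐁(j.range))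
      ((Q.subgroupOf T).map j) ((W.subgroupOf T).map j) := fun c => by
    have := C3.cfg_map m.lf.ij (c.comap T.subtype_injective (by rwa [range_subtype]))
    rwa [comap_subtype, comap_subtype, tr_oc' m.lf.ij BT, tr_B m.lf.ij] at this
  have c := tr st.cfg
  have c' := tr st.cfg'
  rw [tr_oc' m.lf.ij QT] at c
  have nQ := (m.normal_iff m.CP).2 m.YC
  have hz : ¬ L ≤ 𝐂(𝐕(𝐁(j.range))) := fun e => pu.ne (e.trans ((centralizer_anti
    ((oc_le_ocJ _).trans (oc_bau _).ge)).trans h1))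
  have g : GZ 2 q' L 𝐁(j.range) :=
    ⟨⟨M, pu⟩, fun e => hz (pu.le_centralizer_of_normal (oc_le_cent _) e)⟩
  have eQ : pCoreOf 2 L = (Q.subgroupOf T).map j := by
    refine le_antisymm (fun t ht => ?_)
      (H70.le_pCoreOf (pu.isP.to_le c.QB) (c.QB.trans pu.le) (le_top.trans nQ))
    obtain ⟨x, hx, hx'⟩ := SetLike.not_le_iff_exists.1 fun e : zz 2 L ≤ 𝐂(𝐁(j.range)) =>
      hz ((pu.le_centralizer_of_normal e g.normZ).trans (centralizer_anti g.Y_le))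
    by_contra e
    exact hx' (oc_le_cent _ (c.reg1 (pu.Q_le ht) e (ncl_le c.ZX
      (le_normalizer_oc (le_top.trans nQ)) (zz_eq pu.syl ▸ hx)) (g.Z_le_cQ hx t ht)))
  obtain rfl : q' = q :=
    Nat.eq_of_mul_eq_mul_right Nat.card_pos (pu.card.symm.trans (eQ ▸ c.cardB))
  obtain ⟨⟨D, fd⟩, -⟩ := FP.exists_fd pu hz (eQ ▸ c) c'
    (by rw [eQ, F1.bar_le m.lf.ij X'T]; exact st.nle)
  rw [eQ, ← tr_oc' m.lf.ij QT, ← Gm.image m.lf.ij] at fd
  have e1 := Gm.image T.subtype_injective (𝐕(Q).subgroupOf T) ((𝐕(Q) ^ᶜ s).subgroupOf T)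
  rw [map_subgroupOf_eq_of_le ((oc_le Q).trans QT), map_subgroupOf_eq_of_le X'T] at e1
  obtain ⟨K, D, fd, hK⟩ := fd.lift m.lf (P := P.subgroupOf T) (fun z hz => m.CP (oc_le Q (st.ZX
    (cfg_gm st.cfg st.cfg' st.nle (e1 ▸ Set.mem_image_of_mem _ hz)).1))) fun k _ => by
    rw [m.core, normalizer_eq_top]; exact mem_top k
  refine ⟨K, D, e1 ▸ fd, fun a ha b hb => hK ⁅(⟨a, m.PR ha⟩ : T), ⟨b, m.PR hb⟩⁆
    (commutator_le_of_le le_rfl le_rfl (commutator_mem_commutator ha hb)) ?_⟩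
  rw [map_commutatorElement]
  exact cm_cent (bm.XQ.trans ((oc_le _).trans ((m.le_P_iff QT).2 m.CP)))
    (bm.cent.ge.trans inf_le_right) (fun k hk => bm.cm k (res_mono le_top hk))
    (m.core ▸ mem_map_of_mem j ha) (m.core ▸ mem_map_of_mem j hb)

/-- the core for an arbitrary operator group -/
theorem sc2 (hy : ∀ S : Subgroup G, IsSylowIn 2 S ⊤ → ∃ φ : A →* MulAut G, Dat2 φ S)
    {S : Subgroup G} (hS : IsSylowIn 2 S ⊤) : Gold.SC (ww S) ⊤ := by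
  refine sc_of_no_bad (fun S C b => ?_) hS
  have n := np2 hy
  obtain ⟨S, B, Q, q, s, b, mx, hB, hS, st⟩ := stage12 hy b
  obtain ⟨S, s, b, hs, st, hT, rfl⟩ := stage2 n b mx hB hS st
  have mx' := mx.mono (bau_le _)
  have QT := st.QB.trans (bau_le _)
  obtain ⟨Y, P, H, _, _, f, j, M, m⟩ := exists_md inf_le_left QT hT (fun x hx =>
    (cfg_Q st.cfg).ge ⟨⟨hx.1, centralizer_anti ((oc_bau _).ge.trans (st.ZX.trans (oc_le Q))) hx.2⟩,
      centralizer_anti (oc_le Q) hx.2⟩)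
    ((inf_le_inf_right _ (mx'.nb n b.syl inf_le_left)).trans (Mh_anti QT)) b.nM
  obtain ⟨φ, d⟩ := hy S b.syl
  have VR : 𝐕(S) ≤ S ⊓ 𝐍(Q) := le_inf (oc_le S) (le_normalizer_of_le_centralizer
    ((oc_le_cent S).trans (centralizer_anti b.le)))
  have h2 := m.nJ2 n mx' d b.syl VR
  obtain ⟨K, X, g, hK⟩ := m.exists_bg (m.nC2 d b.syl.isP VR) h2 st
  have h : F3.Hy q S _ Q P K X s := ⟨b.syl, mx, rfl, st, hs, g, fun e => hK ((le_inf
    (le_normalizer_of_le_centralizer (le_centralizer_comm.1 e)) g.nQ).trans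
      (d.oc_le_Mh b.syl.isP b.le))⟩
  obtain ⟨K', D, fd, hc⟩ := m.exists_fd
    ((centralizer_anti (m.V_le VR)).trans (m.cV2 d b.syl.isP VR)) h2 st
  rw [h.gm] at fd
  refine fd.false d.ns fun a => (h.dich (d.inv a)).imp_right fun e => ⟨?_, fun x hx y hy => ?_⟩
  · rintro _ ⟨z, hz, rfl⟩
    obtain ⟨x, hx, y, hy, e1⟩ := e z hz
    exact e1 ▸ hc x hx y hy
  · obtain ⟨u, hu, v, hv, e1⟩ := e y hy
    exact h.PC (e1 ▸ commutator_le_of_le le_rfl le_rfl (commutator_mem_commutator hu hv)) x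
      (h.gm_le hx)

end H42.FP
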